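import Mathlib
import Cfsg.Agent.Lib.ClassPiBound
import Cfsg.Agent.Lib.SquareFreeClass.QBound
import Cfsg.Agent.Lib.CharTheory.Linear
import Cfsg.Agent.Lib.CharTheory.Integral
import Cfsg.Agent.S0581

/-!
Tools for bounding the number of classes of `π`-elements.
-/

set_option autoImplicit false

namespace CfsgLib.PiClassHall

open Cfsg CfsgLib.ClassPiBound CfsgLib.ClassPiCount
open scoped commutatorElement

universe u v

/-- The part of the group order at the primes in `s`. -/
noncomputable def part (s : Finset ℕ) (G : Type u) [Group G] : ℕ :=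
  ∏ r ∈ s, r ^ (Nat.card G).factorization r

section Arith

variable {G : Type u} [Group G] [Finite G]

theorem part_ne_zero (s : Finset ℕ) (hs : ∀ r ∈ s, r.Prime) (G : Type u) [Group G] : part s G ≠ 0 :=
  Finset.prod_ne_zero_iff.2 fun r hr => pow_ne_zero _ (hs r hr).ne_zero

omit [Finite G] in
theorem factorization_part {s : Finset ℕ} (hs : ∀ r ∈ s, r.Prime) (q : ℕ) :
    (part s G).factorization q = if q ∈ s then (Nat.card G).factorization q else 0 := by
  classical
  rw [part, Nat.factorization_prod fun r hr => pow_ne_zero _ (hs r hr).ne_zero, Finsupp.finsetSum_apply,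
    Finset.sum_congr rfl fun r hr => by rw [Nat.Prime.factorization_pow (hs r hr), Finsupp.single_apply],
    Finset.sum_ite_eq']

theorem dvd_part {s : Finset ℕ} (hs : ∀ r ∈ s, r.Prime) {n : ℕ} (hn : n ∣ Nat.card G)
    (h : ∀ q : ℕ, q.Prime → q ∣ n → q ∈ s) : n ∣ part s G := by
  have hn0 : n ≠ 0 := ne_zero_of_dvd_ne_zero Nat.card_pos.ne' hn
  rw [← Nat.factorization_le_iff_dvd hn0 (part_ne_zero s hs G)]
  intro q
  rw [factorization_part hs]
  by_cases hq : q ∈ s
  · rw [if_pos hq]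
    exact (Nat.factorization_le_iff_dvd hn0 Nat.card_pos.ne').2 hn q
  · rw [if_neg hq]
    by_contra hne
    have hne' : n.factorization q ≠ 0 := fun e => hne e.le
    exact hq (h q (Nat.prime_of_mem_primeFactors (Nat.support_factorization n ▸ Finsupp.mem_support_iff.2 hne'))
      (Nat.dvd_of_factorization_pos hne'))

theorem part_dvd_card {s : Finset ℕ} (hs : ∀ r ∈ s, r.Prime) : part s G ∣ Nat.card G := by
  rw [← Nat.factorization_le_iff_dvd (part_ne_zero s hs G) Nat.card_pos.ne']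
  intro q
  rw [factorization_part hs]
  split <;> simp

theorem mem_of_dvd_part {s : Finset ℕ} (hs : ∀ r ∈ s, r.Prime) {q : ℕ} (hq : q.Prime) (h : q ∣ part s G) :
    q ∈ s := by
  by_contra hne
  have h1 := hq.factorization_pos_of_dvd (part_ne_zero s hs G) h
  rw [factorization_part hs, if_neg hne] at h1
  exact absurd h1 (lt_irrefl 0)

theorem part_subgroup_dvd {s : Finset ℕ} (hs : ∀ r ∈ s, r.Prime) (C : Subgroup G) : part s C ∣ part s G :=
  dvd_part hs ((part_dvd_card hs).trans C.card_subgroup_dvd_card) fun _ hq hd => mem_of_dvd_part hs hq hd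

omit [Finite G] in
theorem part_insert {s : Finset ℕ} {r : ℕ} (hr : r ∈ s) :
    part s G = r ^ (Nat.card G).factorization r * part (s.erase r) G :=
  (Finset.mul_prod_erase s (fun r => r ^ (Nat.card G).factorization r) hr).symm

omit [Finite G] in
theorem part_singleton {r : ℕ} : part {r} G = r ^ (Nat.card G).factorization r := Finset.prod_singleton _ _

theorem coprime_part {s : Finset ℕ} (hs : ∀ r ∈ s, r.Prime) {n : ℕ} (h : ∀ q ∈ s, ¬ q ∣ n) :
    (part s G).Coprime n :=
  Nat.coprime_of_dvd fun q hq h1 h2 => h q (mem_of_dvd_part hs hq h1) h2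

/-- A subgroup whose order is the part at `s` has index prime to `s`. -/
theorem not_dvd_index {s : Finset ℕ} (hs : ∀ r ∈ s, r.Prime) {H : Subgroup G} (hH : Nat.card H = part s G)
    {q : ℕ} (hq : q ∈ s) : ¬ q ∣ H.index := by
  intro hd
  have h1 := H.card_mul_index
  have h2 : (Nat.card G).factorization q = (part s G).factorization q + H.index.factorization q := by
    rw [← h1, Nat.factorization_mul Nat.card_pos.ne' Subgroup.index_ne_zero_of_finite, Finsupp.add_apply, hH]
  rw [factorization_part hs, if_pos hq] at h2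
  have := (hs q hq).factorization_pos_of_dvd Subgroup.index_ne_zero_of_finite hd
  omega

theorem mul_part_le {s : Finset ℕ} (hs : ∀ r ∈ s, r.Prime) {p : ℕ} (hmin : ∀ q ∈ s, p ≤ q) (C : Subgroup G)
    (h : part s C ≠ part s G) : p * part s C ≤ part s G := by
  obtain ⟨m, hm⟩ := part_subgroup_dvd hs C
  have hm1 : m ≠ 1 := fun e => h (by rw [hm, e, mul_one])
  rw [hm, mul_comm p]
  refine Nat.mul_le_mul_left _ ?_
  obtain ⟨q, hq, hqd⟩ := Nat.exists_prime_and_dvd hm1
  have hm0 : m ≠ 0 := fun e => part_ne_zero s hs G (by rw [hm, e, mul_zero])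
  exact (hmin q (mem_of_dvd_part hs hq (hqd.trans ⟨part s C, by rw [hm, mul_comm]⟩))).trans
    (Nat.le_of_dvd (Nat.pos_of_ne_zero hm0) hqd)

theorem isPiEl_iff_dvd_part {s : Finset ℕ} (hs : ∀ r ∈ s, r.Prime) (x : G) :
    IsPiEl (↑s : Set ℕ) x ↔ orderOf x ∣ part s G :=
  ⟨fun h => dvd_part hs (orderOf_dvd_natCard x) fun q hq hd => Finset.mem_coe.1 (h q hq hd),
    fun h _ hq hd => Finset.mem_coe.2 (mem_of_dvd_part hs hq (hd.trans h))⟩

/-- Wielandt: a subgroup with primes in `s` is conjugate into a nilpotent Hall subgroup. -/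
theorem le_conj_hall {s : Finset ℕ} (hs : ∀ r ∈ s, r.Prime) {H K : Subgroup G} (hH : Nat.card H = part s G)
    (hn : Group.IsNilpotent H) (hK : ∀ q : ℕ, q.Prime → q ∣ Nat.card K → q ∈ s) :
    ∃ x : G, ∀ k ∈ K, x * k * x⁻¹ ∈ H := by
  have hcop : (Nat.card H).Coprime H.index := by
    rw [hH]; exact coprime_part hs fun q hq => not_dvd_index hs hH hq
  obtain ⟨x, hx⟩ := Cfsg.Agent.S0581.result H K hn hcop fun q hq hd => by
    rw [hH]
    refine Nat.dvd_of_factorization_pos ?_
    rw [factorization_part hs, if_pos (hK q hq hd)]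
    exact (hq.factorization_pos_of_dvd Nat.card_pos.ne' (hd.trans K.card_subgroup_dvd_card)).ne'
  refine ⟨x⁻¹, fun k hk => ?_⟩
  obtain ⟨m, hm, rfl⟩ := Subgroup.mem_smul_pointwise_iff_exists _ _ _ |>.1 (hx hk)
  simpa [MulAut.smul_def, mul_assoc] using hm

theorem elem_conj_hall {s : Finset ℕ} (hs : ∀ r ∈ s, r.Prime) {H : Subgroup G} (hH : Nat.card H = part s G)
    (hn : Group.IsNilpotent H) {y : G} (hy : IsPiEl (↑s : Set ℕ) y) : ∃ x : G, x * y * x⁻¹ ∈ H := by
  obtain ⟨x, hx⟩ := le_conj_hall hs hH hn (K := Subgroup.zpowers y) fun q hq hd =>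
    Finset.mem_coe.1 (hy q hq (by rwa [Nat.card_zpowers] at hd))
  exact ⟨x, hx y (Subgroup.mem_zpowers y)⟩

end Arith

section Count

variable {G : Type u} [Group G]

theorem cnt_le_part [Finite G] {s : Finset ℕ} (hs : ∀ r ∈ s, r.Prime) : cnt (↑s : Set ℕ) G ≤ part s G :=
  cnt_le_prod s hs G

/-- Classes of a group are bounded by those of another group meeting all of them. -/
theorem cnt_le_of_hom {C : Type v} [Group C] [Finite G] {π : Set ℕ} (f : G →* C) (hf : Function.Injective f)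
    (h : ∀ y : C, IsPiEl π y → ∃ (c : C) (l : G), c * y * c⁻¹ = f l) : cnt π C ≤ cnt π G := by
  let F : {d : ConjClasses G // ∀ x ∈ d.carrier, IsPiEl π x} → {d : ConjClasses C // ∀ x ∈ d.carrier, IsPiEl π x} :=
    fun d => piClass (f (Quotient.out d.1))
      ((d.2 _ (ConjClasses.mem_carrier_iff_mk_eq.2 (Quotient.out_eq _))).of_dvd (orderOf_map_dvd f _))
  refine Nat.card_le_card_of_surjective F ?_
  rintro ⟨d, hd⟩
  obtain ⟨y, rfl⟩ := ConjClasses.exists_rep d
  have hy := hd y ConjClasses.mem_carrier_mk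
  obtain ⟨c, l, hl⟩ := h y hy
  have hlπ : IsPiEl π l := (isPiEl_conj (isConj_iff.2 ⟨c, hl⟩) hy).of_dvd (dvd_of_eq (orderOf_injective f hf l).symm)
  refine ⟨piClass l hlπ, Subtype.ext (ConjClasses.mk_eq_mk_iff_isConj.2 ?_)⟩
  have h1 : IsConj (Quotient.out (ConjClasses.mk l)) l := ConjClasses.mk_eq_mk_iff_isConj.1 (Quotient.out_eq _)
  exact (f.map_isConj h1).trans (isConj_iff.2 ⟨c⁻¹, by rw [← hl]; group⟩)

/-- Classes of `σ ∪ τ`-elements against classes of `τ`-elements of centralisers. -/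
theorem cnt_union_le [Finite G] (σ τ : Set ℕ) :
    cnt (σ ∪ τ) G ≤ ∑ᶠ c : {c : ConjClasses G // ∀ x ∈ c.carrier, IsPiEl σ x},
      cnt τ ↥(Subgroup.centralizer ({Quotient.out c.1} : Set G)) := by
  classical
  haveI : Fintype {c : ConjClasses G // ∀ x ∈ c.carrier, IsPiEl σ x} := Fintype.ofFinite _
  rw [finsum_eq_sum_of_fintype]
  unfold cnt
  rw [← Nat.card_sigma]
  have hout : ∀ c : ConjClasses G, ConjClasses.mk (Quotient.out c) = c := fun c => Quotient.out_eq c
  have hmul : ∀ (c : {c : ConjClasses G // ∀ x ∈ c.carrier, IsPiEl σ x})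
      (y : ↥(Subgroup.centralizer ({Quotient.out c.1} : Set G))), IsPiEl τ y →
      IsPiEl (σ ∪ τ) (Quotient.out c.1 * (y : G)) := by
    intro c y hy
    refine IsPiEl.mul (fun q hq hd => Or.inl (c.2 _ (ConjClasses.mem_carrier_iff_mk_eq.2 (hout _)) q hq hd))
      (fun q hq hd => Or.inr (hy q hq (by rwa [← Subgroup.orderOf_coe]))) ?_
    exact (Subgroup.mem_centralizer_singleton_iff.1 y.2).symm
  let F : (Σ c : {c : ConjClasses G // ∀ x ∈ c.carrier, IsPiEl σ x},
      {d : ConjClasses ↥(Subgroup.centralizer ({Quotient.out c.1} : Set G)) // ∀ y ∈ d.carrier, IsPiEl τ y}) →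
      {c : ConjClasses G // ∀ x ∈ c.carrier, IsPiEl (σ ∪ τ) x} := fun w =>
    piClass (Quotient.out w.1.1 * (Quotient.out w.2.1 : ↥(Subgroup.centralizer ({Quotient.out w.1.1} : Set G))))
      (hmul _ _ (w.2.2 _ (ConjClasses.mem_carrier_iff_mk_eq.2 (Quotient.out_eq _))))
  refine Nat.card_le_card_of_surjective F ?_
  rintro ⟨e, he⟩
  obtain ⟨z, rfl⟩ := ConjClasses.exists_rep e
  have hz := he z ConjClasses.mem_carrier_mk
  obtain ⟨i, j, hi, hj, hij⟩ := exists_parts σ z
  have hjπ : IsPiEl τ (z ^ j) := fun q hq hd =>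
    (hz q hq (hd.trans (orderOf_pow_dvd j))).resolve_left (hj q hq hd)
  set c := piClass (π := σ) (z ^ i) hi with hc
  obtain ⟨g, hg⟩ := isConj_iff.1 (ConjClasses.mk_eq_mk_iff_isConj.1 (hout c.1).symm)
  have hgj : g * z ^ j * g⁻¹ ∈ Subgroup.centralizer ({Quotient.out c.1} : Set G) := by
    rw [Subgroup.mem_centralizer_singleton_iff, ← hg, ← MulAut.conj_apply, ← MulAut.conj_apply, ← map_mul, ← map_mul,
      (Commute.pow_pow_self z j i).eq]
  set y : ↥(Subgroup.centralizer ({Quotient.out c.1} : Set G)) := ⟨g * z ^ j * g⁻¹, hgj⟩ with hy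
  have hyπ : IsPiEl τ y := by
    refine (isPiEl_conj (isConj_iff.2 ⟨g, rfl⟩) hjπ).of_dvd (dvd_of_eq ?_)
    rw [← Subgroup.orderOf_coe]
  refine ⟨⟨c, piClass y hyπ⟩, Subtype.ext ?_⟩
  show ConjClasses.mk _ = ConjClasses.mk z
  obtain ⟨h, hh⟩ := isConj_iff.1 (ConjClasses.mk_eq_mk_iff_isConj.1
    (Quotient.out_eq (piClass (π := τ) y hyπ).1 : ConjClasses.mk (Quotient.out (piClass (π := τ) y hyπ).1) = ConjClasses.mk y))
  rw [ConjClasses.mk_eq_mk_iff_isConj, isConj_iff]
  refine ⟨g⁻¹ * (h : G), ?_⟩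
  have hh' := congrArg Subtype.val hh
  simp only [Subgroup.coe_mul, InvMemClass.coe_inv] at hh'
  have hcom : (h : G) * Quotient.out c.1 * (h : G)⁻¹ = Quotient.out c.1 := by
    rw [Subgroup.mem_centralizer_singleton_iff.1 h.2, mul_inv_cancel_right]
  set d : G := ↑(Quotient.out (piClass (π := τ) y hyπ).1) with hd
  calc g⁻¹ * (h : G) * (Quotient.out c.1 * d) * (g⁻¹ * (h : G))⁻¹
      = g⁻¹ * (((h : G) * Quotient.out c.1 * (h : G)⁻¹) * ((h : G) * d * (h : G)⁻¹)) * g := by group
    _ = g⁻¹ * ((g * z ^ i * g⁻¹) * (g * z ^ j * g⁻¹)) * g := by rw [hcom, hh', hg]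
    _ = z ^ i * z ^ j := by group
    _ = z := hij

theorem cnt_le_conjClasses [Finite G] {p : ℕ} [Fact p.Prime] (P : Sylow p G) :
    cnt {p} G ≤ Nat.card (ConjClasses (P : Subgroup G)) := by
  refine Nat.card_le_card_of_surjective (fun d : ConjClasses (P : Subgroup G) =>
    piClass ((Quotient.out d : (P : Subgroup G)) : G) (isPiEl_of_mem_sylow P _)) ?_
  intro c
  obtain ⟨x, rfl⟩ := sylowClass_surjective P c
  refine ⟨ConjClasses.mk x, Subtype.ext (ConjClasses.mk_eq_mk_iff_isConj.2 ?_)⟩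
  exact (P : Subgroup G).subtype.map_isConj
    (ConjClasses.mk_eq_mk_iff_isConj.1 (Quotient.out_eq (ConjClasses.mk x)))

end Count

section PGroup

open CfsgLib.CharTheory

variable {P : Type u} [Group P] [Finite P] {p : ℕ} [Fact p.Prime]

theorem sq_mul_conjClasses_le (hP : IsPGroup p P) :
    p ^ 2 * Nat.card (ConjClasses P) + (commutator P).index ≤ Nat.card P + p ^ 2 * (commutator P).index := by
  classical
  have := Fintype.ofFinite P
  choose d hd using fun θ : IrrCharacter P => char_one_eq_natCast (isCharacter_of_irr θ.2)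
  have hsum : Nat.card P = ∑ θ : IrrCharacter P, d θ ^ 2 := by
    apply Nat.cast_injective (R := ℂ)
    rw [← sum_irr_degree_sq]
    push_cast
    exact Finset.sum_congr rfl fun θ _ => by rw [hd]
  have hlin : (commutator P).index = ∑ θ : IrrCharacter P, if d θ = 1 then 1 else 0 := by
    rw [← card_linear, Nat.card_eq_fintype_card, Fintype.card_subtype, Finset.card_filter]
    refine Finset.sum_congr rfl fun θ _ => ?_
    have hiff : ((θ : P → ℂ) 1 = 1) ↔ d θ = 1 := by rw [hd]; exact Nat.cast_eq_one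
    simp only [hiff]
  have hdeg : ∀ θ : IrrCharacter P, d θ = 1 ∨ p ^ 2 ≤ d θ ^ 2 := by
    intro θ
    obtain ⟨n, ρ, hρ, hθ⟩ := θ.2
    haveI := hρ
    have h1 : (d θ : ℂ) = (Module.finrank ℂ (Fin n → ℂ) : ℂ) := by
      rw [← hd θ, ← ρ.char_one]; exact (congrFun hθ 1).symm
    have h2 := finrank_dvd_card ρ
    rw [← (Nat.cast_inj.1 h1)] at h2
    obtain ⟨k, hk⟩ := IsPGroup.iff_card.1 hP
    rw [hk] at h2
    obtain ⟨j, -, hj⟩ := (Nat.dvd_prime_pow (Fact.out : p.Prime)).1 h2
    rcases j with _ | j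
    · exact Or.inl (by rw [hj, pow_zero])
    · refine Or.inr (Nat.pow_le_pow_left ?_ 2)
      rw [hj]
      exact Nat.le_self_pow (by omega) p
  rw [← card_irr_eq_card_conjClasses, Nat.card_eq_fintype_card (α := IrrCharacter P), hsum, hlin, Finset.mul_sum,
    ← Finset.card_univ, mul_comm, ← smul_eq_mul, ← Finset.sum_const, ← Finset.sum_add_distrib, ← Finset.sum_add_distrib]
  refine Finset.sum_le_sum fun θ _ => ?_
  rcases hdeg θ with h | h
  · rw [if_pos h, h]; omega
  · split_ifs with h1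
    · rw [h1]; omega
    · omega

theorem mul_conjClasses_le_of_derived (hP : IsPGroup p P) (h : p < Nat.card (commutator P)) :
    p * Nat.card (ConjClasses P) ≤ Nat.card P := by
  have hp := (Fact.out : p.Prime)
  have h1 := sq_mul_conjClasses_le hP
  have h2 := (commutator P).card_mul_index
  obtain ⟨j, hj⟩ := IsPGroup.iff_card.1 (hP.to_subgroup (commutator P))
  have hj2 : p ^ 2 ≤ p ^ j := Nat.pow_le_pow_right hp.pos (by
    by_contra hlt
    rw [hj] at h
    have := Nat.pow_le_pow_right hp.pos (show j ≤ 1 by omega)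
    rw [pow_one] at this
    omega)
  set L := (commutator P).index
  set k := Nat.card (ConjClasses P)
  set N := Nat.card P
  have h3 : p ^ 2 * L ≤ N := by rw [← h2, hj]; exact Nat.mul_le_mul_right L hj2
  have h4 : 2 ≤ p := hp.two_le
  nlinarith

theorem cube_mul_conjClasses_le (hP : IsPGroup p P) (h : ¬ IsMulCommutative P) :
    p ^ 3 * Nat.card (ConjClasses P) + Nat.card P ≤ (p ^ 2 + p) * Nat.card P := by
  have hp := (Fact.out : p.Prime)
  have h1 := sq_mul_conjClasses_le hP
  have h2 := (commutator P).card_mul_index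
  obtain ⟨j, hj⟩ := IsPGroup.iff_card.1 (hP.to_subgroup (commutator P))
  have hj1 : p ≤ p ^ j := Nat.le_self_pow (fun e => h (by
    rw [e, pow_zero] at hj
    refine ⟨⟨fun a b => ?_⟩⟩
    have h3 : a * b * a⁻¹ * b⁻¹ ∈ commutator P := by
      rw [← commutatorElement_def, commutator_def]; exact Subgroup.commutator_mem_commutator trivial trivial
    rw [Subgroup.card_eq_one.1 hj, Subgroup.mem_bot, mul_inv_eq_one, mul_inv_eq_iff_eq_mul] at h3
    exact h3)) p
  set L := (commutator P).index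
  set k := Nat.card (ConjClasses P)
  set N := Nat.card P
  have h3 : p * L ≤ N := by rw [← h2, hj]; exact Nat.mul_le_mul_right L hj1
  have h4 : 2 ≤ p := hp.two_le
  obtain ⟨c, hc⟩ : ∃ c, p ^ 2 = c + 1 := ⟨p ^ 2 - 1, by have : 0 < p ^ 2 := pow_pos hp.pos 2; omega⟩
  have h5 := Nat.mul_le_mul_left c h3
  have h6 := Nat.mul_le_mul_left p h1
  nlinarith [hc, h5, h6]

end PGroup

section Groups

variable {G : Type u} [Group G]

/-- Either a normal complement with abelian Sylow, or few classes. -/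
theorem complement_or_fused [Finite G] {q : ℕ} [Fact q.Prime] (Q : Sylow q G) :
    (HasNormalPComplement q G ∧ IsMulCommutative (Q : Subgroup G)) ∨
      2 * q * cnt {q} G ≤ (q + 1) * Nat.card (Q : Subgroup G) := by
  by_cases h : (q + 1) * Nat.card (Q : Subgroup G) < 2 * q * cnt {q} G
  · exact Or.inl (hasNormalPComplement_of_lt Q h)
  · exact Or.inr (not_lt.1 h)

/-- Simultaneous abelian complements. -/
theorem exists_common_complement [Finite G] (s : Finset ℕ) (hs : ∀ r ∈ s, r.Prime)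
    (h : ∀ q ∈ s, ∀ [Fact q.Prime], HasNormalPComplement q G ∧ ∀ Q : Sylow q G, IsMulCommutative (Q : Subgroup G)) :
    ∃ K : Subgroup G, K.Normal ∧ commutator G ≤ K ∧ K.index = part s G ∧ (Nat.card K).Coprime K.index := by
  classical
  refine ⟨⨅ q ∈ s, pPrimeCore q G, Subgroup.normal_iInf_normal fun q => Subgroup.normal_iInf_normal fun _ => inferInstance,
    le_iInf₂ fun q hq => ?_, ?_⟩
  · haveI := Fact.mk (hs q hq)
    obtain ⟨hc, hab⟩ := h q hq
    obtain ⟨Q⟩ : Nonempty (Sylow q G) := inferInstance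
    have hcompl := pPrimeCore_isComplement'_sylow (isPGroup_quotient_of_hasNormalPComplement hc) Q
    rw [commutator_def, Subgroup.commutator_le]
    intro a _ b _
    haveI := hab Q
    rw [← QuotientGroup.eq_one_iff, ← QuotientGroup.mk'_apply, map_commutatorElement,
      commutatorElement_eq_one_iff_mul_comm]
    have key : ∀ g : G, ∃ u : (Q : Subgroup G), QuotientGroup.mk' (pPrimeCore q G) g =
        QuotientGroup.mk' (pPrimeCore q G) (u : G) := fun g => by
      obtain ⟨⟨n, u⟩, rfl⟩ := hcompl.2 g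
      refine ⟨u, ?_⟩
      rw [map_mul, show QuotientGroup.mk' (pPrimeCore q G) (n : G) = 1 from (QuotientGroup.eq_one_iff _).2 n.2, one_mul]
    obtain ⟨u, hu⟩ := key a
    obtain ⟨w, hw⟩ := key b
    rw [hu, hw, ← map_mul, ← map_mul]
    exact congrArg _ (congrArg Subtype.val (mul_comm' u w))
  set K := ⨅ q ∈ s, pPrimeCore q G with hK
  have hle : ∀ q ∈ s, K ≤ pPrimeCore q G := fun q hq => iInf₂_le q hq
  have hKcop : ∀ q ∈ s, ¬ q ∣ Nat.card K := fun q hq hd => (hs q hq).ne_one
    (Nat.eq_one_of_dvd_coprimes (card_pPrimeCore_coprime q) (hd.trans (Subgroup.card_dvd_of_le (hle q hq))) dvd_rfl)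
  haveI hKn : K.Normal := Subgroup.normal_iInf_normal fun q => Subgroup.normal_iInf_normal fun _ => inferInstance
  have hidx : ∀ r : ℕ, r.Prime → r ∣ K.index → r ∈ s := by
    intro r hr hd
    haveI := Fact.mk hr
    obtain ⟨x, hx⟩ := exists_prime_orderOf_dvd_card' (G := G ⧸ K) r (by rwa [← Subgroup.index_eq_card])
    obtain ⟨x, rfl⟩ := QuotientGroup.mk'_surjective K x
    obtain ⟨q, hq, hxq⟩ : ∃ q ∈ s, x ∉ pPrimeCore q G := by
      by_contra hall
      push Not at hall
      have : x ∈ K := by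
        rw [hK, Subgroup.mem_iInf]
        exact fun q => Subgroup.mem_iInf.2 fun hq => hall q hq
      rw [(QuotientGroup.eq_one_iff x).2 this |> (fun e => (e : QuotientGroup.mk' K x = 1)), orderOf_one] at hx
      exact hr.ne_one hx.symm
    haveI := Fact.mk (hs q hq)
    obtain ⟨k, hk⟩ := IsPGroup.iff_orderOf.1 (isPGroup_quotient_of_hasNormalPComplement (h q hq).1)
      (QuotientGroup.mk' (pPrimeCore q G) x)
    have h1 : QuotientGroup.mk' (pPrimeCore q G) x ^ r = 1 := by
      have h2 := pow_orderOf_eq_one (QuotientGroup.mk' K x)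
      rw [hx, ← map_pow, QuotientGroup.mk'_apply, QuotientGroup.eq_one_iff] at h2
      rw [← map_pow, QuotientGroup.mk'_apply, QuotientGroup.eq_one_iff]
      exact hle q hq h2
    rcases (Nat.dvd_prime hr).1 (orderOf_dvd_of_pow_eq_one h1) with h2 | h2
    · rw [orderOf_eq_one_iff, QuotientGroup.mk'_apply, QuotientGroup.eq_one_iff] at h2
      exact absurd h2 hxq
    · have h3 : r = q := (Nat.prime_dvd_prime_iff_eq hr (hs q hq)).1 (hr.dvd_of_dvd_pow (dvd_of_eq (h2.symm.trans hk)))
      exact h3 ▸ hq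
  have hi : K.index = part s G := by
    refine Nat.dvd_antisymm (dvd_part hs ⟨Nat.card K, by rw [mul_comm]; exact K.card_mul_index.symm⟩ hidx) ?_
    refine (coprime_part hs hKcop).dvd_of_dvd_mul_left ?_
    rw [K.card_mul_index]
    exact part_dvd_card hs
  exact ⟨hi, hi ▸ (coprime_part hs hKcop).symm⟩

/-- An abelian complement of order the index, lifting into a subgroup covering the quotient. -/
theorem exists_abelian_lift [Finite G] {K : Subgroup G} [K.Normal] (hcomm : commutator G ≤ K)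
    (hcop : (Nat.card K).Coprime K.index) (N : Subgroup G) (hN : ∀ g : G, ∃ n ∈ N, g⁻¹ * n ∈ K) :
    ∃ A : Subgroup G, A ≤ N ∧ Nat.card A = K.index ∧ IsMulCommutative A ∧ Disjoint A K := by
  haveI : (K.subgroupOf N).Normal := inferInstance
  have hidx : (K.subgroupOf N).index = K.index := by
    have h1 : ((QuotientGroup.mk' K).comp N.subtype).ker = K.subgroupOf N := by
      ext x; simp [Subgroup.mem_subgroupOf]
    rw [← h1, Subgroup.index_ker, Subgroup.index_eq_card]
    have h2 : ((QuotientGroup.mk' K).comp N.subtype).range = ⊤ := by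
      rw [eq_top_iff]
      intro x _
      obtain ⟨g, rfl⟩ := QuotientGroup.mk'_surjective K x
      obtain ⟨n, hn, hgn⟩ := hN g
      exact ⟨⟨n, hn⟩, ((QuotientGroup.mk'_eq_mk' K).2 ⟨g⁻¹ * n, hgn, mul_inv_cancel_left g n⟩).symm⟩
    rw [h2, Subgroup.card_top]
  have hcard : Nat.card (K.subgroupOf N) ∣ Nat.card K := by
    refine Subgroup.card_dvd_of_injective ((N.subtype.comp (K.subgroupOf N).subtype).codRestrict K
      fun z => Subgroup.mem_subgroupOf.1 z.2) ?_
    intro a b hab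
    exact Subtype.ext (Subtype.ext (congrArg (fun z : K => (z : G)) hab))
  obtain ⟨A, hA⟩ := Subgroup.exists_right_complement'_of_coprime (N := K.subgroupOf N)
    (by rw [hidx]; exact hcop.coprime_dvd_left hcard)
  refine ⟨A.map N.subtype, Subgroup.map_subtype_le A, ?_, ?_, ?_⟩
  · rw [Subgroup.card_map_of_injective N.subtype_injective, ← hidx, hA.symm.index_eq_card]
  · refine ⟨⟨?_⟩⟩
    rintro ⟨_, a, ha, rfl⟩ ⟨_, b, hb, rfl⟩
    refine Subtype.ext ?_
    show (a : G) * b = (b : G) * a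
    have h1 : a * b * a⁻¹ * b⁻¹ ∈ K.subgroupOf N := by
      rw [Subgroup.mem_subgroupOf]
      refine hcomm ?_
      show (a : G) * b * (a : G)⁻¹ * (b : G)⁻¹ ∈ commutator G
      rw [← commutatorElement_def, commutator_def]
      exact Subgroup.commutator_mem_commutator trivial trivial
    have h2 := Subgroup.disjoint_def.1 hA.disjoint h1 (mul_mem (mul_mem (mul_mem ha hb) (inv_mem ha)) (inv_mem hb))
    have h3 := congrArg Subtype.val h2
    simp only [Subgroup.coe_mul, InvMemClass.coe_inv, OneMemClass.coe_one] at h3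
    rw [mul_inv_eq_one, mul_inv_eq_iff_eq_mul] at h3
    exact h3
  · rw [Subgroup.disjoint_def]
    rintro _ ⟨a, ha, rfl⟩ hK
    exact congrArg Subtype.val (Subgroup.disjoint_def.1 hA.disjoint (Subgroup.mem_subgroupOf.2 hK) ha)

/-- An element centralising a subgroup of prime index in a `p`-group it normalises centralises it. -/
theorem centralizes_of_relIndex [Finite G] {p : ℕ} [Fact p.Prime] {a : G} {S T : Subgroup G}
    (hT : IsPGroup p T) (hST : S ≤ T) (hidx : S.relIndex T ∣ p) (hnorm : ∀ u ∈ T, a * u * a⁻¹ ∈ T)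
    (hS : ∀ u ∈ S, a * u = u * a) (hcop : ∀ q : ℕ, q.Prime → q ∣ orderOf a → q ≠ p ∧ ¬ q ∣ p - 1) :
    ∀ u ∈ T, a * u = u * a := by
  have hp := (Fact.out : p.Prime)
  rcases (Nat.dvd_prime hp).1 hidx with h1 | h1
  · exact fun u hu => hS u (Subgroup.relIndex_eq_one.1 h1 hu)
  set S' := S.subgroupOf T
  haveI hn : S'.Normal := by
    refine Subgroup.normal_of_index_eq_minFac_card ?_
    obtain ⟨i, hi⟩ := IsPGroup.iff_card.1 hT
    have hi0 : i ≠ 0 := fun e => by
      have := Subgroup.index_dvd_card S'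
      rw [show S'.index = p from h1, hi, e, pow_zero] at this
      exact hp.ne_one (Nat.dvd_one.1 this)
    rw [show S'.index = p from h1, hi, Nat.pow_minFac hi0, hp.minFac_eq]
  have hd : ¬ p ∣ orderOf a := fun hd => (hcop p hp hd).1 rfl
  have hquot : Nat.card ((T : Subgroup G) ⧸ S') = p := by rw [← Subgroup.index_eq_card]; exact h1
  intro u hu
  by_contra hne
  have huS : (⟨u, hu⟩ : T) ∉ S' := fun h => hne (hS u (Subgroup.mem_subgroupOf.1 h))
  have hu1 : ((⟨u, hu⟩ : T) : T ⧸ S') ≠ 1 := fun e => huS ((QuotientGroup.eq_one_iff _).1 e)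
  have hgen := zpowers_eq_top_of_prime_card (p := p) hquot hu1
  obtain ⟨m, hm⟩ := hgen.ge (Subgroup.mem_top ((⟨a * u * a⁻¹, hnorm u hu⟩ : T) : T ⧸ S'))
  let α : T → T := fun w => ⟨a * w * a⁻¹, hnorm w w.2⟩
  have hαS : ∀ w ∈ S', α w = w := fun w hw =>
    Subtype.ext (mul_inv_eq_iff_eq_mul.2 (hS w (Subgroup.mem_subgroupOf.1 hw)))
  have hα : ∀ w : T, ∀ k : ℤ, (w : T ⧸ S') = ((⟨u, hu⟩ : T) : T ⧸ S') ^ k →
      (α w : T ⧸ S') = ((⟨u, hu⟩ : T) : T ⧸ S') ^ (m * k) := by
    intro w k hw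
    rw [← QuotientGroup.mk_zpow, QuotientGroup.eq] at hw
    have h2 : α (w⁻¹ * ⟨u, hu⟩ ^ k) = (α w)⁻¹ * (α ⟨u, hu⟩) ^ k :=
      Subtype.ext (by simp only [α, Subgroup.coe_mul, InvMemClass.coe_inv, Subgroup.coe_zpow, conj_zpow]; group)
    rw [hαS _ hw] at h2
    have h3 : ((α w : T) : T ⧸ S')⁻¹ * (((⟨u, hu⟩ : T) : T ⧸ S') ^ (m * k)) = 1 := by
      rw [zpow_mul, show ((⟨u, hu⟩ : T) : T ⧸ S') ^ m = (α ⟨u, hu⟩ : T ⧸ S') from hm, ← QuotientGroup.mk_zpow,
        ← QuotientGroup.mk_inv, ← QuotientGroup.mk_mul, ← h2, QuotientGroup.eq_one_iff]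
      exact hw
    exact inv_mul_eq_one.1 h3
  have hiter : ∀ n : ℕ, ∀ w : T, (w : G) = a ^ n * u * (a ^ n)⁻¹ →
      (w : T ⧸ S') = ((⟨u, hu⟩ : T) : T ⧸ S') ^ (m ^ n) := by
    intro n
    induction n with
    | zero =>
      intro w hw
      rw [pow_zero, zpow_one]
      congr 1
      exact Subtype.ext (by simpa using hw)
    | succ n ih =>
      intro w hw
      have hmem : a ^ n * u * (a ^ n)⁻¹ ∈ T := by
        have : a⁻¹ * (w : G) * a = a ^ n * u * (a ^ n)⁻¹ := by rw [hw, pow_succ']; group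
        clear hw
        induction n with
        | zero => simpa using hu
        | succ k ihk =>
          have h : ∀ j : ℕ, a ^ j * u * (a ^ j)⁻¹ ∈ T := by
            intro j
            induction j with
            | zero => simpa using hu
            | succ j hj =>
              have := hnorm _ hj
              rwa [show a * (a ^ j * u * (a ^ j)⁻¹) * a⁻¹ = a ^ (j + 1) * u * (a ^ (j + 1))⁻¹ by
                rw [pow_succ']; group] at this
          exact h _
      have h2 := hα ⟨_, hmem⟩ _ (ih ⟨_, hmem⟩ rfl)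
      rw [← pow_succ'] at h2
      rw [← h2]
      congr 1
      exact Subtype.ext (by show (w : G) = a * (a ^ n * u * (a ^ n)⁻¹) * a⁻¹; rw [hw, pow_succ']; group)
  have h3 := hiter (orderOf a) ⟨u, hu⟩ (by simp [pow_orderOf_eq_one])
  have hord : orderOf ((⟨u, hu⟩ : T) : T ⧸ S') = p :=
    ((Nat.dvd_prime hp).1 (hquot ▸ orderOf_dvd_natCard _)).resolve_left fun e => hu1 (orderOf_eq_one_iff.1 e)
  have hmod : ∀ i j : ℤ, ((⟨u, hu⟩ : T) : T ⧸ S') ^ i = ((⟨u, hu⟩ : T) : T ⧸ S') ^ j ↔ (i : ZMod p) = (j : ZMod p) := by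
    intro i j
    rw [zpow_eq_zpow_iff_modEq, hord, ← ZMod.intCast_eq_intCast_iff]
  have h4 : ((m : ZMod p)) ^ orderOf a = 1 := by
    have := (hmod 1 (m ^ orderOf a)).1 (by rw [zpow_one]; exact h3)
    rw [Int.cast_one, Int.cast_pow] at this
    exact this.symm
  have hm0 : (m : ZMod p) ≠ 0 := fun e => by
    rw [e, zero_pow (orderOf_pos a).ne'] at h4
    exact zero_ne_one h4
  have h5 : (m : ZMod p) = 1 := by
    have h6 := (pow_gcd_eq_one (a := (m : ZMod p)) (m := orderOf a) (n := p - 1)).2 ⟨h4, ZMod.pow_card_sub_one_eq_one hm0⟩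
    rwa [show Nat.gcd (orderOf a) (p - 1) = 1 from Nat.coprime_of_dvd fun q hq h1 h2 => (hcop q hq h1).2 h2,
      pow_one] at h6
  have h7 : SquareFreeClass.disp a u ∈ S := by
    have h8 : ((⟨u, hu⟩ : T) : T ⧸ S') = ((α ⟨u, hu⟩ : T) : T ⧸ S') := by
      rw [show ((α ⟨u, hu⟩ : T) : T ⧸ S') = ((⟨u, hu⟩ : T) : T ⧸ S') ^ m from hm.symm]
      conv_lhs => rw [← zpow_one ((⟨u, hu⟩ : T) : T ⧸ S')]
      exact (hmod 1 m).2 (by rw [Int.cast_one, h5])
    rw [QuotientGroup.eq] at h8
    exact Subgroup.mem_subgroupOf.1 h8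
  have h9 := SquareFreeClass.disp_eq_one_of_fixed hT hd (hST h7) (hS _ h7)
  exact hne (mul_inv_eq_iff_eq_mul.1 (inv_mul_eq_one.1 h9).symm)

/-- The join of a nilpotent subgroup with one centralising it and of coprime order. -/
theorem join_centralizing [Finite G] {A B : Subgroup G} (hcomm : ∀ a ∈ A, ∀ b ∈ B, Commute a b)
    (hcop : (Nat.card A).Coprime (Nat.card B)) (hA : Group.IsNilpotent A) (hB : Group.IsNilpotent B)
    (hBc : IsMulCommutative B) :
    Nat.card (A ⊔ B : Subgroup G) = Nat.card A * Nat.card B ∧ Group.IsNilpotent (A ⊔ B : Subgroup G) ∧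
      Nat.card (commutator (A ⊔ B : Subgroup G)) ≤ Nat.card (commutator A) := by
  let f : A × B →* G := A.subtype.noncommCoprod B.subtype fun a b => hcomm a a.2 b b.2
  have hf : Function.Injective f := by
    refine (injective_iff_map_eq_one f).2 fun ⟨a, b⟩ hab => ?_
    have h1 : (a : G) * b = 1 := hab
    have h2 : (a : G) = (b : G)⁻¹ := eq_inv_of_mul_eq_one_left h1
    have h3 : (a : G) = 1 := Subgroup.disjoint_def.1 (Subgroup.disjoint_of_coprime_natCard hcop) a.2
      (h2 ▸ inv_mem b.2)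
    have h4 : (b : G) = 1 := by rwa [h3, one_mul] at h1
    exact Prod.ext (Subtype.ext h3) (Subtype.ext h4)
  have hr : f.range = A ⊔ B := by
    refine le_antisymm ?_ (sup_le ?_ ?_)
    · rintro _ ⟨⟨a, b⟩, rfl⟩
      exact mul_mem (Subgroup.mem_sup_left a.2) (Subgroup.mem_sup_right b.2)
    · exact fun a ha => ⟨(⟨a, ha⟩, 1), mul_one _⟩
    · exact fun b hb => ⟨(1, ⟨b, hb⟩), one_mul _⟩
  rw [← hr]
  haveI := hA; haveI := hB; haveI := hBc
  refine ⟨by rw [← Nat.card_prod]; exact (Nat.card_congr (MonoidHom.ofInjective hf).toEquiv).symm,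
    Group.nilpotent_of_mulEquiv (MonoidHom.ofInjective hf), ?_⟩
  set e := MonoidHom.ofInjective hf
  let g : ↥(commutator A) → ↥(commutator f.range) := fun a => ⟨e ((a : A), 1), by
    have h : (commutator A).map (e.toMonoidHom.comp (MonoidHom.inl A B)) ≤ commutator f.range := by
      rw [commutator_def, commutator_def, Subgroup.map_commutator]
      exact Subgroup.commutator_mono le_top le_top
    exact h ⟨(a : A), a.2, rfl⟩⟩
  refine Nat.card_le_card_of_surjective g ?_
  have hle : commutator f.range ≤ (commutator A).map (e.toMonoidHom.comp (MonoidHom.inl A B)) := by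
    rw [commutator_def f.range, Subgroup.commutator_le]
    intro x _ y _
    obtain ⟨⟨a, b⟩, rfl⟩ := e.surjective x
    obtain ⟨⟨a', b'⟩, rfl⟩ := e.surjective y
    refine ⟨⁅a, a'⁆, by rw [commutator_def]; exact Subgroup.commutator_mem_commutator trivial trivial, ?_⟩
    show e (⁅a, a'⁆, 1) = ⁅e (a, b), e (a', b')⁆
    rw [← map_commutatorElement]
    congr 1
    refine Prod.ext rfl ?_
    show (1 : B) = b * b' * b⁻¹ * b'⁻¹
    rw [mul_comm' b b', mul_inv_cancel_right, mul_inv_cancel]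
  rintro ⟨z, hz⟩
  obtain ⟨a, ha, rfl⟩ := hle hz
  exact ⟨⟨a, ha⟩, rfl⟩

/-- A nilpotent group with abelian Sylow subgroups is abelian. -/
theorem isMulCommutative_of_sylow [Finite G] [hn : Group.IsNilpotent G]
    (h : ∀ (r : ℕ) [Fact r.Prime] (R : Sylow r G), r ∣ Nat.card G → IsMulCommutative (R : Subgroup G)) :
    IsMulCommutative G := by
  have hs := ((Group.isNilpotent_of_finite_tfae (G := G)).out 0 3 rfl rfl).mp hn
  have e := Sylow.directProductOfNormal (G := G) (fun {p} [Fact p.Prime] P => hs p inferInstance P)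
  refine ⟨⟨fun a b => e.symm.injective ?_⟩⟩
  rw [map_mul, map_mul]
  funext p P
  haveI : Fact p.1.Prime := ⟨Nat.prime_of_mem_primeFactors p.2⟩
  haveI := h p.1 P (Nat.dvd_of_mem_primeFactors p.2)
  exact mul_comm' _ _

end Groups

end CfsgLib.PiClassHall
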