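import Mathlib
import Cfsg.Agent.Lib.PiClassHall.Basic

/-!
Many classes of `π`-elements force a nilpotent Hall `π`-subgroup.
-/

set_option autoImplicit false

namespace CfsgLib.PiClassHall

open Cfsg CfsgLib.ClassPiBound CfsgLib.ClassPiCount
open scoped IsMulCommutative commutatorElement

universe u

/-- A nilpotent Hall subgroup with small derived subgroup. -/
def HasHall (s : Finset ℕ) (p : ℕ) (G : Type u) [Group G] : Prop :=
  ∃ H : Subgroup G, Nat.card H = part s G ∧ Group.IsNilpotent H ∧ Nat.card (commutator H) ≤ p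

variable {G : Type u} [Group G] [Finite G] {s : Finset ℕ} {p r : ℕ}

theorem few_of_single (hs : ∀ q ∈ s, q.Prime) (hr : r ∈ s) [Fact r.Prime] (R : Sylow r G)
    (h : p * cnt {r} G ≤ Nat.card (R : Subgroup G)) : p * cnt (↑s : Set ℕ) G ≤ part s G := by
  rw [part_insert hr, ← R.card_eq_multiplicity]
  calc p * cnt (↑s : Set ℕ) G ≤ p * (cnt {r} G * part (s.erase r) G) :=
        Nat.mul_le_mul_left p (cnt_le_single_mul (hs r hr) s hs hr)
    _ ≤ _ := by rw [← mul_assoc]; exact Nat.mul_le_mul_right _ h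

theorem few_of_nonabelian (hs : ∀ q ∈ s, q.Prime) (hr : r ∈ s) [Fact r.Prime] (hpr : p < r) (R : Sylow r G)
    (h : ¬ IsMulCommutative (R : Subgroup G)) : p * cnt (↑s : Set ℕ) G ≤ part s G := by
  refine few_of_single hs hr R ?_
  have h1 := cube_mul_conjClasses_le R.isPGroup' h
  have h2 := cnt_le_conjClasses R
  set k := Nat.card (ConjClasses (R : Subgroup G))
  set N := Nat.card (R : Subgroup G)
  have h3 : p * k ≤ N := by
    obtain ⟨d, rfl⟩ : ∃ d, r = p + 1 + d := ⟨r - (p + 1), by omega⟩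
    have h4 : (p + 1 + d) ^ 3 * (p * k) + p * N ≤ ((p + 1 + d) ^ 2 + (p + 1 + d)) * p * N := by
      have := Nat.mul_le_mul_left p h1
      nlinarith
    have h5 : ((p + 1 + d) ^ 2 + (p + 1 + d)) * p ≤ (p + 1 + d) ^ 3 + p := by
      nlinarith [Nat.zero_le (d * d), Nat.zero_le (p * d), Nat.zero_le (d * d * d), Nat.zero_le (p * p * d),
        Nat.zero_le (p * d * d)]
    have h6 := Nat.mul_le_mul_right N h5
    have h7 : (p + 1 + d) ^ 3 * (p * k) ≤ (p + 1 + d) ^ 3 * N := by nlinarith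
    exact Nat.le_of_mul_le_mul_left h7 (pow_pos (by omega) 3)
  exact (Nat.mul_le_mul_left p h2).trans h3

theorem le_normal_of_coprime_index {K T : Subgroup G} [K.Normal] [Fact r.Prime] (hT : IsPGroup r T)
    (h : ¬ r ∣ K.index) : T ≤ K := by
  intro x hx
  obtain ⟨k, hk⟩ := IsPGroup.iff_orderOf.1 hT ⟨x, hx⟩
  rw [Subgroup.orderOf_mk] at hk
  have h1 : orderOf (x : G ⧸ K) ∣ r ^ k := hk ▸ orderOf_map_dvd (QuotientGroup.mk' K) x
  have h2 : orderOf (x : G ⧸ K) ∣ K.index := by rw [Subgroup.index_eq_card]; exact orderOf_dvd_natCard _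
  exact (QuotientGroup.eq_one_iff x).1 (orderOf_eq_one_iff.1
    (Nat.eq_one_of_dvd_coprimes (((Fact.out : r.Prime).coprime_iff_not_dvd.2 h).pow_left k) h1 h2))

/-- A `σ`-element centralising a subgroup of index at most `p` in a Sylow `p`-subgroup maps into the image of
the centraliser of a Sylow `p`-subgroup. -/
theorem image_mem [Fact p.Prime] {σ : Finset ℕ} (hσ : ∀ q ∈ σ, q.Prime) (hgt : ∀ q ∈ σ, p < q) {K : Subgroup G}
    [K.Normal] (hcomm : commutator G ≤ K) (hidx : K.index = part σ G) (hcop : (Nat.card K).Coprime K.index)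
    (P : Sylow p G) {a : G} {T : Sylow p G} {S : Subgroup G} (hST : S ≤ (T : Subgroup G))
    (hS : ∀ u ∈ S, Commute u a) (hrel : S.relIndex (T : Subgroup G) ∣ p) :
    QuotientGroup.mk' K a ∈ (Subgroup.centralizer ((P : Subgroup G) : Set G)).map (QuotientGroup.mk' K) := by
  have hp := (Fact.out : p.Prime)
  set M := Subgroup.normalizer (S : Set G)
  have haM : a ∈ M := by
    rw [Subgroup.mem_normalizer_iff]
    intro u
    refine ⟨fun hu => ?_, fun hu => ?_⟩
    · rwa [← (hS u hu).eq, mul_inv_cancel_right]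
    · have h1 : a * u = a * (a * u * a⁻¹) := by rw [← (hS _ hu).eq, inv_mul_cancel_right]
      exact (mul_left_cancel h1).symm ▸ hu
  have hTM : (T : Subgroup G) ≤ M := by
    intro t ht
    have hcl : ∀ t ∈ (T : Subgroup G), ∀ u ∈ S, t * u * t⁻¹ ∈ S := fun t ht u hu => by
      have h1 := mul_mem (SquareFreeClass.commutator_le_of_relIndex T hST hrel t ht u (hST hu)) hu
      rwa [show t * u * t⁻¹ * u⁻¹ * u = t * u * t⁻¹ by group] at h1
    rw [Subgroup.mem_normalizer_iff]
    intro u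
    refine ⟨hcl t ht u, fun hu => ?_⟩
    have h1 := hcl _ (inv_mem ht) _ hu
    rwa [show t⁻¹ * (t * u * t⁻¹) * t⁻¹⁻¹ = u by group] at h1
  have hpK : ¬ p ∣ K.index := fun hd => by
    rw [hidx] at hd
    exact lt_irrefl p (hgt p (mem_of_dvd_part hσ hp hd))
  have hTK : (T : Subgroup G) ≤ K := le_normal_of_coprime_index T.isPGroup' hpK
  set TM := T.subtype hTM
  haveI : (K.subgroupOf M).Normal := inferInstance
  have hTMK : (TM : Subgroup M) ≤ K.subgroupOf M := fun x hx => Subgroup.mem_subgroupOf.2 (hTK hx)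
  have htop := Sylow.normalizer_sup_eq_top (TM.subtype hTMK)
  rw [Sylow.coe_subtype, Subgroup.subgroupOf_map_subtype, inf_of_le_left hTMK] at htop
  obtain ⟨n, hn, k, hk, hnk⟩ := Subgroup.mem_sup_of_normal_right.1 (htop.ge (Subgroup.mem_top (⟨a, haM⟩ : M)))
  have hkK : (k : G) ∈ K := hk
  have hn' : (n : G) * k = a := congrArg Subtype.val hnk
  have hnT : ∀ u ∈ (T : Subgroup G), (n : G) * u * (n : G)⁻¹ ∈ (T : Subgroup G) := fun u hu =>
    (Subgroup.mem_normalizer_iff.1 hn (⟨u, hTM hu⟩ : M)).1 hu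
  have hkS : ∀ i : ℕ, ∀ u ∈ S, ((k : G) ^ i)⁻¹ * u * (k : G) ^ i ∈ S := fun i u hu => by
    have h1 := (Subgroup.mem_normalizer_iff.1 (inv_mem (pow_mem k.2 i)) u).1 hu
    rwa [inv_inv] at h1
  have hit : ∀ i : ℕ, ∀ u ∈ S, (n : G) ^ i * u * ((n : G) ^ i)⁻¹ = ((k : G) ^ i)⁻¹ * u * (k : G) ^ i := by
    intro i
    induction i with
    | zero => intro u _; simp
    | succ i ih =>
      intro u hu
      have h1 := (hS _ (hkS (i + 1) u hu)).eq
      calc (n : G) ^ (i + 1) * u * ((n : G) ^ (i + 1))⁻¹ = n * ((n : G) ^ i * u * ((n : G) ^ i)⁻¹) * (n : G)⁻¹ := by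
            rw [pow_succ']; group
        _ = a * (((k : G) ^ (i + 1))⁻¹ * u * (k : G) ^ (i + 1)) * a⁻¹ := by rw [ih u hu, ← hn']; group
        _ = _ := by rw [← h1, mul_inv_cancel_right]
  obtain ⟨e, he1, he0⟩ := Nat.chineseRemainder hcop.symm 1 0
  obtain ⟨m, hm⟩ := Nat.modEq_zero_iff_dvd.1 he0
  have hke : (k : G) ^ e = 1 := orderOf_dvd_iff_pow_eq_one.1 ((Subgroup.orderOf_dvd_natCard K hkK).trans ⟨m, hm⟩)
  have hπn : QuotientGroup.mk' K ((n : G) ^ e) = QuotientGroup.mk' K a := by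
    have h1 : QuotientGroup.mk' K (n : G) = QuotientGroup.mk' K a :=
      (QuotientGroup.mk'_eq_mk' K).2 ⟨k, hkK, hn'⟩
    rw [map_pow, h1]
    conv_rhs => rw [← pow_one (QuotientGroup.mk' K a)]
    rw [pow_eq_pow_iff_modEq]
    exact he1.of_dvd (by rw [Subgroup.index_eq_card]; exact orderOf_dvd_natCard _)
  have hord : orderOf ((n : G) ^ e) ∣ K.index := by
    refine orderOf_dvd_of_pow_eq_one ?_
    rw [← pow_mul, hm, mul_assoc, mul_comm m, ← mul_assoc, K.card_mul_index, pow_mul, pow_card_eq_one', one_pow]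
  have hTn : ∀ u ∈ (T : Subgroup G), ((n : G) ^ e) * u * ((n : G) ^ e)⁻¹ ∈ (T : Subgroup G) := by
    suffices h : ∀ j : ℕ, ∀ u ∈ (T : Subgroup G), ((n : G) ^ j) * u * ((n : G) ^ j)⁻¹ ∈ (T : Subgroup G) from h e
    intro j
    induction j with
    | zero => intro u hu; simpa using hu
    | succ j ih =>
      intro u hu
      have := hnT _ (ih u hu)
      rwa [show (n : G) * ((n : G) ^ j * u * ((n : G) ^ j)⁻¹) * (n : G)⁻¹ = (n : G) ^ (j + 1) * u * ((n : G) ^ (j + 1))⁻¹ by
        rw [pow_succ']; group] at this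
  have hcen := centralizes_of_relIndex T.isPGroup' hST hrel hTn
    (fun u hu => mul_inv_eq_iff_eq_mul.1 (by rw [hit e u hu, hke, inv_one, one_mul, mul_one]))
    (fun q hq hd => by
      have h1 := hgt q (mem_of_dvd_part hσ hq (hidx ▸ hd.trans hord))
      refine ⟨h1.ne', fun hd' => ?_⟩
      have := Nat.le_of_dvd (by have := hp.two_le; omega) hd'
      omega)
  obtain ⟨g, hg⟩ := MulAction.exists_smul_eq G T P
  refine ⟨g * (n : G) ^ e * g⁻¹, Subgroup.mem_centralizer_iff.2 fun v hv => ?_, ?_⟩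
  · rw [← hg] at hv
    obtain ⟨u, hu, rfl⟩ := hv
    show g * u * g⁻¹ * (g * (n : G) ^ e * g⁻¹) = g * (n : G) ^ e * g⁻¹ * (g * u * g⁻¹)
    calc _ = g * (u * (n : G) ^ e) * g⁻¹ := by group
      _ = g * ((n : G) ^ e * u) * g⁻¹ := by rw [hcen u hu]
      _ = _ := by group
  · rw [← hπn, QuotientGroup.mk'_eq_mk']
    refine ⟨(g * (n : G) ^ e * g⁻¹)⁻¹ * (n : G) ^ e, hcomm ?_, mul_inv_cancel_left _ _⟩
    rw [show (g * (n : G) ^ e * g⁻¹)⁻¹ * (n : G) ^ e = g * ((n : G) ^ e)⁻¹ * g⁻¹ * (((n : G) ^ e)⁻¹)⁻¹ by group,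
      ← commutatorElement_def, commutator_def]
    exact Subgroup.commutator_mem_commutator trivial trivial

/-- The case in which every prime other than `p` has a normal complement. -/
theorem case_complements (hs : ∀ q ∈ s, q.Prime) (hp : p ∈ s) (hmin : ∀ q ∈ s, p ≤ q) [Fact p.Prime]
    (P : Sylow p G) (hP : Nat.card (commutator (P : Subgroup G)) ≤ p)
    (h : ∀ q ∈ s.erase p, ∀ [Fact q.Prime], HasNormalPComplement q G ∧ ∀ Q : Sylow q G, IsMulCommutative (Q : Subgroup G)) :
    p * cnt (↑s : Set ℕ) G ≤ part s G ∨ HasHall s p G := by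
  classical
  set σ := s.erase p with hσdef
  have hσ : ∀ q ∈ σ, q.Prime := fun q hq => hs q (Finset.mem_of_mem_erase hq)
  have hgt : ∀ q ∈ σ, p < q := fun q hq =>
    lt_of_le_of_ne (hmin q (Finset.mem_of_mem_erase hq)) (Finset.ne_of_mem_erase hq).symm
  obtain ⟨K, hKn, hcomm, hidx, hcop⟩ := exists_common_complement σ hσ h
  haveI := hKn
  set B := (Subgroup.centralizer ((P : Subgroup G) : Set G)).map (QuotientGroup.mk' K) with hB
  by_cases hBtop : B = ⊤
  · refine Or.inr ?_
    obtain ⟨A, hA, hAc, hAab, -⟩ := exists_abelian_lift hcomm hcop (Subgroup.centralizer ((P : Subgroup G) : Set G))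
      fun g => by
        obtain ⟨n, hn, hn'⟩ := hBtop.ge (Subgroup.mem_top (QuotientGroup.mk' K g))
        exact ⟨n, hn, QuotientGroup.eq.1 hn'.symm⟩
    rw [hidx] at hAc
    haveI := hAab
    have hcopP : (Nat.card (P : Subgroup G)).Coprime (Nat.card A) := by
      rw [hAc, P.card_eq_multiplicity]
      refine Nat.Coprime.pow_left _ ((Fact.out : p.Prime).coprime_iff_not_dvd.2 fun hd => ?_)
      exact lt_irrefl p (hgt p (mem_of_dvd_part hσ Fact.out hd))
    obtain ⟨h1, h2, h3⟩ := join_centralizing (A := (P : Subgroup G)) (B := A)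
      (fun a ha b hb => Subgroup.mem_centralizer_iff.1 (hA hb) a ha) hcopP P.isPGroup'.isNilpotent inferInstance hAab
    exact ⟨_, by rw [h1, hAc, P.card_eq_multiplicity, part_insert hp], h2, h3.trans hP⟩
  refine Or.inl ?_
  haveI : Fintype {c : ConjClasses G // ∀ x ∈ c.carrier, IsPiEl (↑σ : Set ℕ) x} := Fintype.ofFinite _
  have hsum : cnt (↑s : Set ℕ) G ≤ ∑ c : {c : ConjClasses G // ∀ x ∈ c.carrier, IsPiEl (↑σ : Set ℕ) x},
      cnt {p} ↥(Subgroup.centralizer ({Quotient.out c.1} : Set G)) := by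
    rw [← finsum_eq_sum_of_fintype,
      show (↑s : Set ℕ) = (↑σ : Set ℕ) ∪ {p} by rw [Set.union_singleton, ← Finset.coe_insert, Finset.insert_erase hp]]
    exact cnt_union_le _ _
  set P' := Nat.card (P : Subgroup G)
  have hw : ∀ c : {c : ConjClasses G // ∀ x ∈ c.carrier, IsPiEl (↑σ : Set ℕ) x},
      p ^ 2 * cnt {p} ↥(Subgroup.centralizer ({Quotient.out c.1} : Set G)) ≤
        P' + if QuotientGroup.mk' K (Quotient.out c.1) ∈ B then (p ^ 2 - 1) * P' else 0 := by
    intro c
    set a := Quotient.out c.1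
    set C := Subgroup.centralizer ({a} : Set G)
    have h1 : cnt {p} C ≤ p ^ (Nat.card C).factorization p := by
      have := cnt_le_part (G := C) (s := {p}) (by simpa using (Fact.out : p.Prime))
      rwa [Finset.coe_singleton, part_singleton] at this
    have h2 : (Nat.card C).factorization p + C.index.factorization p = (Nat.card G).factorization p := by
      rw [← C.card_mul_index, Nat.factorization_mul Nat.card_pos.ne' Subgroup.index_ne_zero_of_finite, Finsupp.add_apply]
    have hP' : P' = p ^ (Nat.card G).factorization p := P.card_eq_multiplicity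
    split_ifs with hgood
    · have h3 : cnt {p} C ≤ P' := h1.trans (hP' ▸ Nat.pow_le_pow_right (Fact.out : p.Prime).pos (by omega))
      have h4 : P' + (p ^ 2 - 1) * P' = p ^ 2 * P' := by
        have : 1 ≤ p ^ 2 := Nat.one_le_pow _ _ (Fact.out : p.Prime).pos
        rw [show p ^ 2 * P' = (1 + (p ^ 2 - 1)) * P' by rw [Nat.add_sub_cancel' this]]; ring
      rw [h4]
      exact Nat.mul_le_mul_left _ h3
    · have h3 : p ^ 2 ∣ C.index := by
        by_contra hnd
        obtain ⟨T, S, hST, hS, hrel⟩ := SquareFreeClass.sylow_centralizer_index a hnd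
        exact hgood (image_mem hσ hgt hcomm hidx hcop P hST hS hrel)
      have h4 : 2 ≤ C.index.factorization p :=
        ((Fact.out : p.Prime).pow_dvd_iff_le_factorization Subgroup.index_ne_zero_of_finite).1 h3
      rw [add_zero, hP']
      refine (Nat.mul_le_mul_left _ h1).trans ?_
      rw [← pow_add]
      exact Nat.pow_le_pow_right (Fact.out : p.Prime).pos (by omega)
  obtain ⟨A, -, hAc, hAab, hAK⟩ := exists_abelian_lift hcomm hcop ⊤ (fun g => ⟨g, trivial, by simp⟩)
  rw [hidx] at hAc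
  have hπ : ∀ x y : G, QuotientGroup.mk' K (x * y * x⁻¹) = QuotientGroup.mk' K y := fun x y => by
    rw [QuotientGroup.mk'_eq_mk']
    refine ⟨(x * y * x⁻¹)⁻¹ * y, hcomm ?_, mul_inv_cancel_left _ _⟩
    rw [show (x * y * x⁻¹)⁻¹ * y = x * y⁻¹ * x⁻¹ * y⁻¹⁻¹ by group, ← commutatorElement_def, commutator_def]
    exact Subgroup.commutator_mem_commutator trivial trivial
  have hinj : Function.Injective fun c : {c : ConjClasses G // ∀ x ∈ c.carrier, IsPiEl (↑σ : Set ℕ) x} =>
      QuotientGroup.mk' K (Quotient.out c.1) := by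
    intro c d hcd
    have hout : ∀ c : ConjClasses G, ConjClasses.mk (Quotient.out c) = c := fun c => Quotient.out_eq c
    obtain ⟨x, hx⟩ := elem_conj_hall hσ hAc (by haveI := hAab; infer_instance)
      (c.2 _ (ConjClasses.mem_carrier_iff_mk_eq.2 (hout _)))
    obtain ⟨y, hy⟩ := elem_conj_hall hσ hAc (by haveI := hAab; infer_instance)
      (d.2 _ (ConjClasses.mem_carrier_iff_mk_eq.2 (hout _)))
    have h1 : QuotientGroup.mk' K (x * Quotient.out c.1 * x⁻¹) = QuotientGroup.mk' K (y * Quotient.out d.1 * y⁻¹) := by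
      rw [hπ, hπ]; exact hcd
    obtain ⟨z, hz, hz'⟩ := (QuotientGroup.mk'_eq_mk' K).1 h1
    have hz1 : z = 1 := Subgroup.disjoint_def.1 hAK (by
      have : z = (x * Quotient.out c.1 * x⁻¹)⁻¹ * (y * Quotient.out d.1 * y⁻¹) := by rw [← hz', inv_mul_cancel_left]
      rw [this]; exact mul_mem (inv_mem hx) hy) hz
    rw [hz1, mul_one] at hz'
    refine Subtype.ext ?_
    rw [← hout c.1, ← hout d.1, ConjClasses.mk_eq_mk_iff_isConj]
    exact (isConj_iff.2 ⟨x, hz'⟩).trans (isConj_iff.2 ⟨y⁻¹, by group⟩)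
  have hNcl : Fintype.card {c : ConjClasses G // ∀ x ∈ c.carrier, IsPiEl (↑σ : Set ℕ) x} ≤ part σ G := by
    rw [← Nat.card_eq_fintype_card]
    exact cnt_le_part hσ
  have hgood : (Finset.univ.filter fun c : {c : ConjClasses G // ∀ x ∈ c.carrier, IsPiEl (↑σ : Set ℕ) x} =>
      QuotientGroup.mk' K (Quotient.out c.1) ∈ B).card ≤ Nat.card B := by
    rw [← Nat.card_eq_finsetCard]
    exact Nat.card_le_card_of_injective (fun c => (⟨_, (Finset.mem_filter.1 c.2).2⟩ : B))
      fun a b e => Subtype.ext (hinj (congrArg Subtype.val e))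
  have hBidx : (p + 1) * Nat.card B ≤ part σ G := by
    have h1 := B.card_mul_index
    rw [← Subgroup.index_eq_card, hidx] at h1
    obtain ⟨q, hq, hqd⟩ := Nat.exists_prime_and_dvd (n := B.index) fun e => hBtop (Subgroup.index_eq_one.1 e)
    have h2 := hgt q (mem_of_dvd_part hσ hq (hqd.trans ⟨Nat.card B, by rw [mul_comm]; exact h1.symm⟩))
    have h3 := Nat.le_of_dvd (Nat.pos_of_ne_zero Subgroup.index_ne_zero_of_finite) hqd
    rw [← h1, mul_comm (Nat.card B)]
    exact Nat.mul_le_mul_right _ (by omega)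
  have h5 : p ^ 2 * cnt (↑s : Set ℕ) G ≤ part σ G * P' + Nat.card B * ((p ^ 2 - 1) * P') := by
    refine (Nat.mul_le_mul_left _ hsum).trans ?_
    rw [Finset.mul_sum]
    refine (Finset.sum_le_sum fun c _ => hw c).trans ?_
    rw [Finset.sum_add_distrib, Finset.sum_const, Finset.card_univ, smul_eq_mul, ← Finset.sum_filter,
      Finset.sum_const, smul_eq_mul]
    exact Nat.add_le_add (Nat.mul_le_mul_right _ hNcl) (Nat.mul_le_mul_right _ hgood)
  rw [part_insert hp, ← P.card_eq_multiplicity]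
  refine Nat.le_of_mul_le_mul_left ?_ (Fact.out : p.Prime).pos
  obtain ⟨c, hc⟩ : ∃ c, p = c + 1 := ⟨p - 1, by have := (Fact.out : p.Prime).two_le; omega⟩
  have hsq : p ^ 2 - 1 = c * (p + 1) := by
    have : p ^ 2 = c * (p + 1) + 1 := by rw [hc]; ring
    omega
  rw [hsq] at h5
  have h6 := Nat.mul_le_mul_left (c * P') hBidx
  have h7 : p * (p * cnt (↑s : Set ℕ) G) ≤ (c + 1) * (P' * part σ G) := by
    nlinarith [h5, h6]
  rwa [← hc] at h7

/-- The case of a prime whose Sylow subgroup is moved by its normaliser. -/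
theorem case_fused (hs : ∀ q ∈ s, q.Prime) (hp : p ∈ s) (hmin : ∀ q ∈ s, p ≤ q) (hr : r ∈ s) (hpr : p < r)
    [Fact r.Prime] (hab : ∀ R : Sylow r G, IsMulCommutative (R : Subgroup G))
    (hk : ∀ R : Sylow r G, 2 * r * cnt {r} G ≤ (r + 1) * Nat.card (R : Subgroup G))
    (IH : ∀ C : Subgroup G, p * cnt (↑(s.erase r) : Set ℕ) C ≤ part (s.erase r) C ∨ HasHall (s.erase r) p C) :
    p * cnt (↑s : Set ℕ) G ≤ part s G ∨ HasHall s p G := by
  classical
  have hrp := (Fact.out : r.Prime)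
  set σ := s.erase r with hσdef
  have hσ : ∀ q ∈ σ, q.Prime := fun q hq => hs q (Finset.mem_of_mem_erase hq)
  have hσmin : ∀ q ∈ σ, p ≤ q := fun q hq => hmin q (Finset.mem_of_mem_erase hq)
  haveI : Fact p.Prime := ⟨hs p hp⟩
  haveI : Fintype {c : ConjClasses G // ∀ x ∈ c.carrier, IsPiEl ({r} : Set ℕ) x} := Fintype.ofFinite _
  have hsum : cnt (↑s : Set ℕ) G ≤ ∑ c : {c : ConjClasses G // ∀ x ∈ c.carrier, IsPiEl ({r} : Set ℕ) x},
      cnt (↑σ : Set ℕ) ↥(Subgroup.centralizer ({Quotient.out c.1} : Set G)) := by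
    rw [← finsum_eq_sum_of_fintype,
      show (↑s : Set ℕ) = insert r (↑σ : Set ℕ) by rw [← Finset.coe_insert, Finset.insert_erase hr]]
    exact exists_sigma_surjective _ (by simp [hσdef])
  set w := fun c : {c : ConjClasses G // ∀ x ∈ c.carrier, IsPiEl ({r} : Set ℕ) x} =>
    cnt (↑σ : Set ℕ) ↥(Subgroup.centralizer ({Quotient.out c.1} : Set G)) with hwdef
  set M := part σ G with hM
  have hwM : ∀ c, w c ≤ M := fun c =>
    (cnt_le_part hσ).trans (Nat.le_of_dvd (Nat.pos_of_ne_zero (part_ne_zero σ hσ G)) (part_subgroup_dvd hσ _))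
  have hwit : ∀ c, p * w c ≤ M ∨ ∃ H' : Subgroup G, Nat.card H' = M ∧ Group.IsNilpotent H' ∧
      Nat.card (commutator H') ≤ p ∧ ∀ h ∈ H', Commute h (Quotient.out c.1) := by
    intro c
    set C := Subgroup.centralizer ({Quotient.out c.1} : Set G)
    by_cases hC : part σ C = part σ G
    · rcases IH C with h | ⟨H, hH1, hH2, hH3⟩
      · exact Or.inl (h.trans hC.le)
      · refine Or.inr ⟨H.map C.subtype, by rw [Subgroup.card_map_of_injective C.subtype_injective, hH1, hC], ?_, ?_, ?_⟩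
        · haveI := hH2
          exact Group.nilpotent_of_mulEquiv (H.equivMapOfInjective _ C.subtype_injective)
        · refine le_trans (le_of_eq ?_) hH3
          set e := H.equivMapOfInjective _ C.subtype_injective
          rw [show commutator (H.map C.subtype) = (commutator H).map e.toMonoidHom by
            rw [commutator_def, commutator_def, Subgroup.map_commutator, Subgroup.map_top_of_surjective _ e.surjective],
            Subgroup.card_map_of_injective e.injective]
        · rintro _ ⟨h, -, rfl⟩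
          exact Subgroup.mem_centralizer_singleton_iff.1 h.2
    · exact Or.inl ((Nat.mul_le_mul_left p (cnt_le_part hσ)).trans (mul_part_le hσ hσmin C hC))
  by_cases hall : ∀ c, p * w c ≤ M
  · refine Or.inl ?_
    obtain ⟨R⟩ : Nonempty (Sylow r G) := inferInstance
    rw [part_insert hr, ← R.card_eq_multiplicity]
    calc p * cnt (↑s : Set ℕ) G ≤ p * ∑ c, w c := Nat.mul_le_mul_left p hsum
      _ = ∑ c, p * w c := Finset.mul_sum _ _ _
      _ ≤ ∑ _c : {c : ConjClasses G // ∀ x ∈ c.carrier, IsPiEl ({r} : Set ℕ) x}, M := Finset.sum_le_sum fun c _ => hall c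
      _ ≤ _ := by
        rw [Finset.sum_const, Finset.card_univ, smul_eq_mul, ← Nat.card_eq_fintype_card]
        exact Nat.mul_le_mul_right _ (cnt_le_sylow R)
  push Not at hall
  obtain ⟨c0, hc0⟩ := hall
  obtain ⟨H', hH', hn', hc', -⟩ := (hwit c0).resolve_left (not_le.2 hc0)
  obtain ⟨R1⟩ : Nonempty (Sylow r ↥(Subgroup.centralizer (H' : Set G))) := inferInstance
  obtain ⟨R, hR0R⟩ := (R1.isPGroup'.map (Subgroup.centralizer (H' : Set G)).subtype).exists_le_sylow
  set R0 := (R1 : Subgroup ↥(Subgroup.centralizer (H' : Set G))).map (Subgroup.centralizer (H' : Set G)).subtype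
  have hR0H : ∀ u ∈ R0, ∀ h ∈ H', Commute h u := by
    rintro _ ⟨u, -, rfl⟩ h hh
    exact Subgroup.mem_centralizer_iff.1 u.2 h hh
  haveI := hab R
  have hgood : ∀ c, M < p * w c → ∃ u ∈ R0, IsConj u (Quotient.out c.1) := by
    intro c hc
    obtain ⟨H1, hH1, -, -, hH1c⟩ := (hwit c).resolve_left (not_le.2 hc)
    obtain ⟨g, hg⟩ := le_conj_hall hσ hH' hn' (K := H1) fun q hq hd => mem_of_dvd_part hσ hq (hH1 ▸ hd)
    have heq : H1.map (MulAut.conj g).toMonoidHom = H' := Subgroup.eq_of_le_of_card_ge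
      (by rintro _ ⟨h, hh, rfl⟩; exact hg h hh)
      (by rw [Subgroup.card_map_of_injective (MulAut.conj g).injective, hH', hH1])
    have hxC : g * Quotient.out c.1 * g⁻¹ ∈ Subgroup.centralizer (H' : Set G) := by
      refine Subgroup.mem_centralizer_iff.2 fun h hh => ?_
      rw [← heq] at hh
      obtain ⟨h1, hh1, rfl⟩ := hh
      exact ((hH1c h1 hh1).map (MulAut.conj g).toMonoidHom).eq
    have hxπ : IsPiEl ({r} : Set ℕ) (⟨_, hxC⟩ : ↥(Subgroup.centralizer (H' : Set G))) :=
      (isPiEl_conj (isConj_iff.2 ⟨g, rfl⟩) (c.2 _ (ConjClasses.mem_carrier_iff_mk_eq.2 (Quotient.out_eq _)))).of_dvd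
        (dvd_of_eq (by rw [← Subgroup.orderOf_coe]))
    obtain ⟨v, hv⟩ := sylowClass_surjective R1 (piClass (π := ({r} : Set ℕ)) _ hxπ)
    have h1 := ConjClasses.mk_eq_mk_iff_isConj.1 (congrArg Subtype.val hv)
    refine ⟨_, Subgroup.mem_map_of_mem _ v.2, ((Subgroup.centralizer (H' : Set G)).subtype.map_isConj h1).trans ?_⟩
    exact isConj_iff.2 ⟨g⁻¹, by show g⁻¹ * (g * Quotient.out c.1 * g⁻¹) * g⁻¹⁻¹ = _; group⟩
  have hgcard : (Finset.univ.filter fun c => M < p * w c).card ≤ Nat.card R0 := by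
    rw [← Nat.card_eq_finsetCard]
    choose u hu hconj using hgood
    refine Nat.card_le_card_of_injective (fun c => (⟨u c.1 (Finset.mem_filter.1 c.2).2, hu _ _⟩ : R0)) ?_
    intro c d e
    have e' := congrArg Subtype.val e
    have h1 := (hconj c.1 (Finset.mem_filter.1 c.2).2).symm
    have h2 := hconj d.1 (Finset.mem_filter.1 d.2).2
    rw [show u c.1 _ = u d.1 _ from e'] at h1
    refine Subtype.ext (Subtype.ext ?_)
    rw [← Quotient.out_eq c.1.1, ← Quotient.out_eq d.1.1]
    exact ConjClasses.mk_eq_mk_iff_isConj.2 (h1.trans h2)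
  set kr := cnt {r} G
  have hbound : ∀ E : ℕ, (∀ c, M < p * w c → 2 * p * w c ≤ 2 * M + E) →
      2 * p * cnt (↑s : Set ℕ) G ≤ kr * (2 * M) + Nat.card R0 * E := by
    intro E hE
    refine (Nat.mul_le_mul_left _ hsum).trans ?_
    rw [Finset.mul_sum]
    calc ∑ c, 2 * p * w c ≤ ∑ c, (2 * M + if M < p * w c then E else 0) := by
          refine Finset.sum_le_sum fun c _ => ?_
          split_ifs with h
          · exact hE c h
          · rw [add_zero, mul_assoc]; exact Nat.mul_le_mul_left 2 (not_lt.1 h)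
      _ ≤ _ := by
          rw [Finset.sum_add_distrib, Finset.sum_const, Finset.card_univ, smul_eq_mul, ← Finset.sum_filter,
            Finset.sum_const, smul_eq_mul, ← Nat.card_eq_fintype_card]
          exact Nat.add_le_add le_rfl (Nat.mul_le_mul_right _ hgcard)
  set N := Nat.card (R : Subgroup G) with hN
  have hkR := hk R
  have hfin : 2 * p * r * cnt (↑s : Set ℕ) G ≤ 2 * r * (N * M) → p * cnt (↑s : Set ℕ) G ≤ part s G := by
    intro h
    rw [part_insert hr, ← R.card_eq_multiplicity]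
    refine Nat.le_of_mul_le_mul_left ?_ (show 0 < 2 * r by have := hrp.pos; omega)
    calc 2 * r * (p * cnt (↑s : Set ℕ) G) = 2 * p * r * cnt (↑s : Set ℕ) G := by ring
      _ ≤ _ := h
  obtain ⟨j, hj⟩ := R.isPGroup'.index (R0.subgroupOf (R : Subgroup G))
  have hNj : Nat.card R0 * r ^ j = N := by
    rw [← hj, ← Nat.card_congr (Subgroup.subgroupOfEquivOfLe hR0R).toEquiv, Subgroup.card_mul_index]
  rcases Nat.eq_zero_or_pos j with hj0 | hj0
  · refine Or.inr ?_
    have heq : R0 = (R : Subgroup G) := by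
      rw [hj0, pow_zero, mul_one] at hNj
      exact Subgroup.eq_of_le_of_card_ge hR0R hNj.ge
    obtain ⟨h1, h2, h3⟩ := join_centralizing (A := H') (B := (R : Subgroup G))
      (fun a ha b hb => hR0H b (heq ▸ hb) a ha) (by
        rw [hH', R.card_eq_multiplicity]
        exact (coprime_part hσ fun q hq hd => Finset.ne_of_mem_erase hq
          ((Nat.prime_dvd_prime_iff_eq (hσ q hq) hrp).1 ((hσ q hq).dvd_of_dvd_pow hd))))
      hn' R.isPGroup'.isNilpotent inferInstance
    exact ⟨_, by rw [h1, hH', R.card_eq_multiplicity, part_insert hr, mul_comm], h2, h3.trans hc'⟩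
  have hp2 := (hs p hp).two_le
  obtain ⟨e, he⟩ : ∃ e, p = e + 1 := ⟨p - 1, by omega⟩
  have htriv : ∀ c, M < p * w c → 2 * p * w c ≤ 2 * M + 2 * e * M := fun c _ => by
    calc 2 * p * w c ≤ 2 * p * M := Nat.mul_le_mul_left _ (hwM c)
      _ = _ := by rw [he]; ring
  by_cases hj2 : 2 ≤ j
  · refine Or.inl (hfin ?_)
    have h1 := hbound _ htriv
    have h2 : r * (r * Nat.card R0) ≤ N := by
      calc r * (r * Nat.card R0) = Nat.card R0 * r ^ 2 := by ring
        _ ≤ Nat.card R0 * r ^ j := Nat.mul_le_mul_left _ (Nat.pow_le_pow_right hrp.pos hj2)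
        _ = N := hNj
    have h3 : r * (r + 1) + 2 * e ≤ 2 * r * r := by nlinarith
    refine Nat.le_of_mul_le_mul_left ?_ hrp.pos
    calc r * (2 * p * r * cnt (↑s : Set ℕ) G) ≤ r * r * (kr * (2 * M) + Nat.card R0 * (2 * e * M)) := by
          nlinarith [Nat.mul_le_mul_left (r * r) h1]
      _ = r * M * (2 * r * kr) + 2 * e * M * (r * (r * Nat.card R0)) := by ring
      _ ≤ r * M * ((r + 1) * N) + 2 * e * M * N :=
          Nat.add_le_add (Nat.mul_le_mul_left _ hkR) (Nat.mul_le_mul_left _ h2)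
      _ = (r * (r + 1) + 2 * e) * (N * M) := by ring
      _ ≤ (2 * r * r) * (N * M) := Nat.mul_le_mul_right _ h3
      _ = _ := by ring
  have hj1 : j = 1 := by omega
  rw [hj1, pow_one] at hNj
  have hlin : ∀ E : ℕ, (∀ c, M < p * w c → 2 * p * w c ≤ 2 * M + E * M) → r + 1 + E ≤ 2 * r →
      p * cnt (↑s : Set ℕ) G ≤ part s G := by
    intro E hE hle
    refine hfin ?_
    calc 2 * p * r * cnt (↑s : Set ℕ) G = r * (2 * p * cnt (↑s : Set ℕ) G) := by ring
      _ ≤ r * (kr * (2 * M) + Nat.card R0 * (E * M)) := Nat.mul_le_mul_left _ (hbound _ hE)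
      _ = M * (2 * r * kr) + E * M * (Nat.card R0 * r) := by ring
      _ ≤ M * ((r + 1) * N) + E * M * N := Nat.add_le_add (Nat.mul_le_mul_left _ hkR) (Nat.mul_le_mul_left _ hNj.le)
      _ = (r + 1 + E) * (N * M) := by ring
      _ ≤ _ := Nat.mul_le_mul_right _ hle
  by_cases hbig : 2 * p ≤ r + 1
  · exact Or.inl (hlin (2 * e) htriv (by omega))
  set L := Subgroup.centralizer (R0 : Set G) with hL
  have hHL : H' ≤ L := fun h hh => Subgroup.mem_centralizer_iff.2 fun u hu => (hR0H u hu h hh).symm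
  have hRL : (R : Subgroup G) ≤ L := fun x hx => Subgroup.mem_centralizer_iff.2 fun u hu =>
    congrArg Subtype.val (mul_comm' (⟨u, hR0R hu⟩ : (R : Subgroup G)) ⟨x, hx⟩)
  have hLpart : part σ L = M := Nat.dvd_antisymm (part_subgroup_dvd hσ L)
    (dvd_part hσ (hH' ▸ Subgroup.card_dvd_of_le hHL) fun q hq hd => mem_of_dvd_part hσ hq hd)
  by_cases hex : ∃ q ∈ σ, ∃ (_ : Fact q.Prime) (Q : Sylow q L), 2 * q * cnt {q} L ≤ (q + 1) * Nat.card (Q : Subgroup L)
  · obtain ⟨q, hq, _, Q, hQ⟩ := hex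
    refine Or.inl (hlin e (fun c hc => ?_) (by omega))
    obtain ⟨u, hu, hconj⟩ := hgood c hc
    obtain ⟨g, hg⟩ := isConj_iff.1 hconj
    set C := Subgroup.centralizer ({Quotient.out c.1} : Set G)
    have hmem : ∀ l ∈ L, g * l * g⁻¹ ∈ C := fun l hl => by
      rw [Subgroup.mem_centralizer_singleton_iff, ← hg]
      have h1 := Subgroup.mem_centralizer_iff.1 hl u hu
      calc g * l * g⁻¹ * (g * u * g⁻¹) = g * (l * u) * g⁻¹ := by group
        _ = g * (u * l) * g⁻¹ := by rw [h1]
        _ = _ := by group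
    let f : L →* C := ((MulAut.conj g).toMonoidHom.comp L.subtype).codRestrict C fun l => hmem l l.2
    set Hc := (H'.map (MulAut.conj g).toMonoidHom).subgroupOf C
    have hHcC : H'.map (MulAut.conj g).toMonoidHom ≤ C := by
      rintro _ ⟨h, hh, rfl⟩; exact hmem h (hHL hh)
    have hc1 : Nat.card Hc = M := by
      rw [Nat.card_congr (Subgroup.subgroupOfEquivOfLe hHcC).toEquiv,
        Subgroup.card_map_of_injective (MulAut.conj g).injective, hH']
    have hCpart : part σ C = M := Nat.dvd_antisymm (part_subgroup_dvd hσ C)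
      (dvd_part hσ (hc1 ▸ Hc.card_subgroup_dvd_card) fun q hq hd => mem_of_dvd_part hσ hq hd)
    have hcn : Group.IsNilpotent Hc := by
      haveI := hn'
      exact Group.nilpotent_of_mulEquiv
        ((H'.equivMapOfInjective _ (MulAut.conj g).injective).trans (Subgroup.subgroupOfEquivOfLe hHcC).symm)
    have hle : w c ≤ cnt (↑σ : Set ℕ) L := by
      refine cnt_le_of_hom f (fun a b hab' => Subtype.ext ((MulAut.conj g).injective (congrArg Subtype.val hab'))) ?_
      intro y hy
      obtain ⟨x, hx⟩ := elem_conj_hall hσ (hc1.trans hCpart.symm) hcn hy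
      obtain ⟨h, hh, he'⟩ := Subgroup.mem_subgroupOf.1 hx
      exact ⟨x, ⟨h, hHL hh⟩, Subtype.ext he'.symm⟩
    have h1 := cnt_le_single_mul (G := L) (hσ q hq) σ hσ hq
    rw [Q.card_eq_multiplicity] at hQ
    have h2 : 2 * q * w c ≤ (q + 1) * M := by
      calc 2 * q * w c ≤ 2 * q * (cnt {q} L * part (σ.erase q) L) := Nat.mul_le_mul_left _ (hle.trans h1)
        _ = 2 * q * cnt {q} L * part (σ.erase q) L := by ring
        _ ≤ (q + 1) * q ^ (Nat.card L).factorization q * part (σ.erase q) L := Nat.mul_le_mul_right _ hQ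
        _ = _ := by rw [mul_assoc, ← part_insert hq, hLpart]
    have hpq := hσmin q hq
    refine Nat.le_of_mul_le_mul_left ?_ (hσ q hq).pos
    calc q * (2 * p * w c) = p * (2 * q * w c) := by ring
      _ ≤ p * ((q + 1) * M) := Nat.mul_le_mul_left _ h2
      _ = (p * q + p) * M := by ring
      _ ≤ (p * q + q) * M := Nat.mul_le_mul_right _ (by omega)
      _ = _ := by rw [he]; ring
  -- all complements inside `L`
  refine Or.inr ?_
  have hcompl : ∀ q ∈ σ, ∀ [Fact q.Prime], HasNormalPComplement q L ∧ ∀ Q : Sylow q L, IsMulCommutative (Q : Subgroup L) := by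
    intro q hq _
    have key : ∀ Q : Sylow q L, HasNormalPComplement q L ∧ IsMulCommutative (Q : Subgroup L) := fun Q =>
      (complement_or_fused Q).resolve_right fun h => hex ⟨q, hq, inferInstance, Q, h⟩
    exact ⟨(key (Classical.arbitrary _)).1, fun Q => (key Q).2⟩
  obtain ⟨K, hKn, hcomm, hidx, hcop⟩ := exists_common_complement σ hσ hcompl
  haveI := hKn
  have hrσ : r ∉ σ := Finset.notMem_erase r s
  have hRK : (R.subtype hRL : Subgroup L) ≤ K :=
    le_normal_of_coprime_index (R.subtype hRL).isPGroup' fun hd => hrσ (mem_of_dvd_part hσ hrp (hidx ▸ hd))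
  have htop := Sylow.normalizer_sup_eq_top ((R.subtype hRL).subtype hRK)
  rw [Sylow.coe_subtype, Subgroup.subgroupOf_map_subtype, inf_of_le_left hRK] at htop
  obtain ⟨A, hA, hAc, hAab, -⟩ := exists_abelian_lift hcomm hcop
    (Subgroup.normalizer (((R.subtype hRL : Sylow r L) : Subgroup L) : Set L)) fun g => by
      obtain ⟨n, hn, k, hk, rfl⟩ := Subgroup.mem_sup_of_normal_right.1 (htop.ge (Subgroup.mem_top g))
      exact ⟨n, hn, by simpa [mul_assoc] using inv_mem hk⟩
  rw [hidx, hLpart] at hAc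
  have hAR : ∀ a ∈ A.map L.subtype, ∀ b ∈ (R : Subgroup G), Commute a b := by
    rintro _ ⟨a, ha, rfl⟩
    have hnorm : ∀ u ∈ (R : Subgroup G), (a : G) * u * (a : G)⁻¹ ∈ (R : Subgroup G) := fun u hu =>
      (Subgroup.mem_normalizer_iff.1 (hA ha) (⟨u, hRL hu⟩ : L)).1 hu
    refine centralizes_of_relIndex R.isPGroup' hR0R (by rw [Subgroup.relIndex, hj, hj1, pow_one]) hnorm
      (fun u hu => (Subgroup.mem_centralizer_iff.1 a.2 u hu).symm) fun q hq hd => ?_
    have hd' : q ∣ M := by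
      rw [Subgroup.coe_subtype, Subgroup.orderOf_coe] at hd
      exact hAc ▸ hd.trans (Subgroup.orderOf_dvd_natCard A ha)
    have hqσ := mem_of_dvd_part hσ hq hd'
    refine ⟨Finset.ne_of_mem_erase hqσ, fun ⟨t, ht⟩ => ?_⟩
    have hpq := hσmin q hqσ
    have hr2 : r % 2 = 1 := hrp.eq_two_or_odd.resolve_left (by omega)
    rcases t with _ | _ | t
    · omega
    · simp only [zero_add, mul_one] at ht
      rcases hq.eq_two_or_odd with h2 | h2 <;> omega
    · have : q * 2 ≤ q * (t + 1 + 1) := Nat.mul_le_mul_left q (by omega)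
      omega
  haveI := hAab
  haveI hAab' : IsMulCommutative (A.map L.subtype) := by
    refine ⟨⟨?_⟩⟩
    rintro ⟨_, a, ha, rfl⟩ ⟨_, b, hb, rfl⟩
    exact Subtype.ext (congrArg (fun z : A => ((z : L) : G)) (mul_comm' (⟨a, ha⟩ : A) ⟨b, hb⟩))
  obtain ⟨h1, h2, h3⟩ := join_centralizing hAR (by
      rw [Subgroup.card_map_of_injective L.subtype_injective, hAc, R.card_eq_multiplicity]
      exact (coprime_part hσ fun q hq hd => Finset.ne_of_mem_erase hq
        ((Nat.prime_dvd_prime_iff_eq (hσ q hq) hrp).1 ((hσ q hq).dvd_of_dvd_pow hd))))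
    inferInstance R.isPGroup'.isNilpotent inferInstance
  refine ⟨_, by rw [h1, Subgroup.card_map_of_injective L.subtype_injective, hAc, R.card_eq_multiplicity,
    part_insert hr, mul_comm], h2, h3.trans ?_⟩
  have : commutator (A.map L.subtype) = ⊥ := by
    refine (commutator_def _).trans (Subgroup.commutator_eq_bot_iff_le_centralizer.2 ?_)
    intro a _ b _
    exact mul_comm' b a
  rw [this, Subgroup.card_bot]
  omega

theorem few_or_hall_aux : ∀ (n : ℕ) (G : Type u) [Group G] [Finite G] (s : Finset ℕ) (p : ℕ), s.card ≤ n →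
    (∀ q ∈ s, q.Prime) → p ∈ s → (∀ q ∈ s, p ≤ q) →
    p * cnt (↑s : Set ℕ) G ≤ part s G ∨ HasHall s p G := by
  intro n
  induction n with
  | zero =>
    intro G _ _ s p h _ hp
    exact absurd h (not_le.2 (Finset.card_pos.2 ⟨p, hp⟩))
  | succ n ih =>
    intro G _ _ s p hcard hs hp hmin
    classical
    haveI : Fact p.Prime := ⟨hs p hp⟩
    obtain ⟨P⟩ : Nonempty (Sylow p G) := inferInstance
    by_cases hP : Nat.card (commutator (P : Subgroup G)) ≤ p
    swap
    · exact Or.inl (few_of_single hs hp P ((Nat.mul_le_mul_left p (cnt_le_conjClasses P)).trans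
        (mul_conjClasses_le_of_derived P.isPGroup' (not_le.1 hP))))
    by_cases hab : ∀ r ∈ s.erase p, ∀ [Fact r.Prime], ∀ R : Sylow r G, IsMulCommutative (R : Subgroup G)
    swap
    · push Not at hab
      obtain ⟨r, hr, _, R, hR⟩ := hab
      exact Or.inl (few_of_nonabelian hs (Finset.mem_of_mem_erase hr)
        (lt_of_le_of_ne (hmin r (Finset.mem_of_mem_erase hr)) (Finset.ne_of_mem_erase hr).symm) R hR)
    by_cases hcompl : ∀ r ∈ s.erase p, ∀ [Fact r.Prime], HasNormalPComplement r G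
    · exact case_complements hs hp hmin P hP fun q hq _ => ⟨hcompl q hq, hab q hq⟩
    push Not at hcompl
    obtain ⟨r, hr, _, hnc⟩ := hcompl
    have hrs := Finset.mem_of_mem_erase hr
    have hpr := lt_of_le_of_ne (hmin r hrs) (Finset.ne_of_mem_erase hr).symm
    refine case_fused hs hp hmin hrs hpr (hab r hr) (fun R => ?_) fun C => ?_
    · exact ((complement_or_fused R).resolve_left fun h => hnc h.1)
    · refine ih C (s.erase r) p ?_ (fun q hq => hs q (Finset.mem_of_mem_erase hq))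
        (Finset.mem_erase.2 ⟨hpr.ne, hp⟩) fun q hq => hmin q (Finset.mem_of_mem_erase hq)
      rw [Finset.card_erase_of_mem hrs]
      omega

theorem few_or_hall (hs : ∀ q ∈ s, q.Prime) (hp : p ∈ s) (hmin : ∀ q ∈ s, p ≤ q) :
    p * cnt (↑s : Set ℕ) G ≤ part s G ∨ HasHall s p G :=
  few_or_hall_aux _ G s p le_rfl hs hp hmin

end CfsgLib.PiClassHall
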