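import Mathlib
import Cfsg.Agent.Lib.PiClassHall.Main

/-!
The class-number criteria for nilpotent and for abelian Hall subgroups.
-/

set_option autoImplicit false

namespace CfsgLib.PiClassHall

open Cfsg CfsgLib.ClassPiBound CfsgLib.ClassPiCount

universe u

variable {G : Type u} [Group G] [Finite G] {s : Finset ℕ} {p : ℕ}

theorem setup {π : Set ℕ} (hπ : ∀ q ∈ π, q.Prime) (hp : p ∈ π) (hmin : ∀ q ∈ π, p ≤ q) {m : ℕ}
    (hm : m ∣ Nat.card G) (hmπ : ∀ q : ℕ, q.Prime → q ∣ m → q ∈ π) (hm' : ∀ q ∈ π, ¬ q ∣ Nat.card G / m) :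
    ∃ s : Finset ℕ, (∀ q ∈ s, q.Prime) ∧ p ∈ s ∧ (∀ q ∈ s, p ≤ q) ∧ part s G = m ∧
      Nat.card {C : ConjClasses G // ∀ q : ℕ, q.Prime → (∃ g : G, ConjClasses.mk g = C ∧ q ∣ orderOf g) → q ∈ π} =
        cnt (↑s : Set ℕ) G := by
  classical
  set s := insert p ((Nat.card G).primeFactors.filter fun q => q ∈ π) with hs
  have hsπ : ∀ q ∈ s, q ∈ π := fun q hq => by
    rcases Finset.mem_insert.1 hq with rfl | h
    · exact hp
    · exact (Finset.mem_filter.1 h).2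
  have hmem : ∀ q : ℕ, q.Prime → q ∣ Nat.card G → q ∈ π → q ∈ s := fun q hq hd hqπ =>
    Finset.mem_insert_of_mem (Finset.mem_filter.2 ⟨Nat.mem_primeFactors.2 ⟨hq, hd, Nat.card_pos.ne'⟩, hqπ⟩)
  have hprime : ∀ q ∈ s, q.Prime := fun q hq => hπ q (hsπ q hq)
  refine ⟨s, hprime, Finset.mem_insert_self _ _, fun q hq => hmin q (hsπ q hq), ?_, ?_⟩
  · refine Nat.dvd_antisymm ?_ (dvd_part hprime hm fun q hq hd => hmem q hq (hd.trans hm) (hmπ q hq hd))
    refine (coprime_part hprime fun q hq => hm' q (hsπ q hq)).dvd_of_dvd_mul_right ?_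
    rw [Nat.mul_div_cancel' hm]
    exact part_dvd_card hprime
  · refine Nat.card_congr (Equiv.subtypeEquivRight fun C => ⟨fun hC x hx q hq hd => ?_, fun hC q hq hx => ?_⟩)
    · exact Finset.mem_coe.2 (hmem q hq (hd.trans (orderOf_dvd_natCard x))
        (hC q hq ⟨x, ConjClasses.mem_carrier_iff_mk_eq.1 hx, hd⟩))
    · obtain ⟨g, hg, hd⟩ := hx
      exact hsπ q (Finset.mem_coe.1 (hC g (ConjClasses.mem_carrier_iff_mk_eq.2 hg) q hq hd))

theorem abelian_hall (hs : ∀ q ∈ s, q.Prime) (hp : p ∈ s) (hmin : ∀ q ∈ s, p ≤ q)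
    (h : part s G * (p ^ 2 + p - 1) < p ^ 3 * cnt (↑s : Set ℕ) G) :
    ∃ H : Subgroup G, Nat.card H = part s G ∧ IsMulCommutative H := by
  have hpp := hs p hp
  haveI : Fact p.Prime := ⟨hpp⟩
  obtain ⟨c, hc⟩ : ∃ c, p ^ 2 + p - 1 = p ^ 2 + c := ⟨p - 1, by have := hpp.pos; omega⟩
  have hfew : ¬ p * cnt (↑s : Set ℕ) G ≤ part s G := fun hle => by
    rw [hc] at h
    have := Nat.mul_le_mul_left (p ^ 2) hle
    nlinarith
  obtain ⟨H, hH, hn, -⟩ := (few_or_hall hs hp hmin).resolve_left hfew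
  haveI := hn
  refine ⟨H, hH, isMulCommutative_of_sylow fun r _ R hr => ?_⟩
  have hrs : r ∈ s := mem_of_dvd_part hs Fact.out (hH ▸ hr)
  have hab : ∀ T : Sylow r G, IsMulCommutative (T : Subgroup G) := by
    intro T
    by_contra hna
    rcases eq_or_lt_of_le (hmin r hrs) with e | hlt
    · subst e
      have h1 := cube_mul_conjClasses_le T.isPGroup' hna
      have h2 := (cnt_le_single_mul (G := G) hpp s hs hrs).trans
        (Nat.mul_le_mul_right (part (s.erase p) G) (cnt_le_conjClasses T))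
      rw [part_insert hrs, ← T.card_eq_multiplicity] at h
      obtain ⟨d, hd⟩ : ∃ d, p ^ 2 + p = d + 1 := ⟨p ^ 2 + p - 1, by have := hpp.pos; omega⟩
      rw [hd] at h1
      rw [show p ^ 2 + p - 1 = d by omega] at h
      have h3 := Nat.mul_le_mul_left (p ^ 3) h2
      have h4 := Nat.mul_le_mul_right (part (s.erase p) G) h1
      nlinarith
    · exact hfew (few_of_nonabelian hs hrs hlt T hna)
  obtain ⟨T, hT⟩ := (R.isPGroup'.map H.subtype).exists_le_sylow
  haveI := hab T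
  refine ⟨⟨fun a b => Subtype.ext (Subtype.ext ?_)⟩⟩
  have := congrArg Subtype.val (mul_comm' (⟨_, hT (Subgroup.mem_map_of_mem H.subtype a.2)⟩ : (T : Subgroup G))
    ⟨_, hT (Subgroup.mem_map_of_mem H.subtype b.2)⟩)
  exact this

end CfsgLib.PiClassHall
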